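import Cfsg.Agent.Lib.Fusion.NPC
import Cfsg.Agent.Lib.Lie.CoreFunctor
import Cfsg.Agent.Lib.Local.ElemAb

/-!
# Groups in which centralisers of involutions have normal 2-complements

The odd elements of `C(t)` form a subgroup `theta t`; it gives a balanced signalizer functor.
-/

set_option autoImplicit false
set_option linter.style.haveILetI false
set_option linter.unusedSectionVars false

open Cfsg Cfsg.Agent.Fusion

namespace Cfsg.Agent.TwoNilpCent

universe u

variable {G : Type u} [Group G]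

/-- The centraliser of every involution has a normal 2-complement. -/
def InvNPC (G : Type u) [Group G] : Prop :=
  ∀ t : G, orderOf t = 2 → Cfsg.HasNormalPComplement 2 ↥(Subgroup.centralizer ({t} : Set G))

/-- The subgroup generated by the elements of odd order centralising `t`. -/
def theta (t : G) : Subgroup G :=
  Subgroup.closure {x : G | x ∈ Subgroup.centralizer ({t} : Set G) ∧ Odd (orderOf x)}

theorem theta_le (t : G) : theta t ≤ Subgroup.centralizer ({t} : Set G) :=
  (Subgroup.closure_le _).2 fun _ hx => hx.1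

theorem theta_cj (t g : G) : cj (theta t) g = theta (g * t * g⁻¹) := by
  rw [theta, cj, MonoidHom.map_closure, theta]
  congr 1
  ext y
  constructor
  · rintro ⟨x, ⟨hx, ho⟩, rfl⟩
    refine ⟨Subgroup.mem_centralizer_singleton_iff.2 ?_, by rwa [MulEquiv.coe_toMonoidHom, MulEquiv.orderOf_eq]⟩
    rw [MulEquiv.coe_toMonoidHom, ← MulAut.conj_apply g t, ← map_mul, ← map_mul,
      Subgroup.mem_centralizer_singleton_iff.1 hx]
  · rintro ⟨hy, ho⟩
    refine ⟨MulAut.conj g⁻¹ y, ⟨Subgroup.mem_centralizer_singleton_iff.2 ?_, by rwa [MulEquiv.orderOf_eq]⟩, by simp [mul_assoc]⟩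
    have h := congrArg (MulAut.conj g⁻¹) (Subgroup.mem_centralizer_singleton_iff.1 hy)
    simpa [mul_assoc] using h

variable [Finite G]

theorem mem_theta (hI : InvNPC G) {t : G} (ht : orderOf t = 2) {x : G} :
    x ∈ theta t ↔ x ∈ Subgroup.centralizer ({t} : Set G) ∧ Odd (orderOf x) := by
  haveI : Fact (Nat.Prime 2) := ⟨Nat.prime_two⟩
  refine ⟨fun h => ?_, fun h => Subgroup.subset_closure h⟩
  set C := Subgroup.centralizer ({t} : Set G)
  have hle : theta t ≤ (pResidual 2 ↥C).map C.subtype := by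
    refine (Subgroup.closure_le _).2 fun y hy => ⟨⟨y, hy.1⟩, Subgroup.subset_closure ?_, rfl⟩
    show (orderOf (⟨y, hy.1⟩ : ↥C)).Coprime 2
    rw [Subgroup.orderOf_mk]
    exact Nat.coprime_two_right.2 hy.2
  obtain ⟨y, hy, rfl⟩ := hle h
  refine ⟨y.2, ?_⟩
  rw [Subgroup.coe_subtype, Subgroup.orderOf_coe]
  refine Nat.coprime_two_right.1 ((hnpc_iff.1 (hI t ht)).coprime_dvd_left ?_)
  rw [← Subgroup.orderOf_mk y hy]
  exact orderOf_dvd_natCard _

theorem theta_odd (hI : InvNPC G) {t : G} (ht : orderOf t = 2) : Odd (Nat.card ↥(theta t)) := by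
  by_contra h
  rw [Nat.not_odd_iff_even, even_iff_two_dvd] at h
  haveI : Fact (Nat.Prime 2) := ⟨Nat.prime_two⟩
  obtain ⟨x, hx⟩ := exists_prime_orderOf_dvd_card' 2 h
  have := ((mem_theta hI ht).1 x.2).2
  rw [Subgroup.orderOf_coe, hx] at this
  exact absurd this (by decide)

theorem centralizer_le_normalizer_theta (t : G) :
    Subgroup.centralizer ({t} : Set G) ≤ Subgroup.normalizer (theta t : Set G) := fun g hg => by
  refine mem_normalizer_of_cj_le (le_of_eq ?_)
  rw [theta_cj, Subgroup.mem_centralizer_singleton_iff.1 hg, mul_inv_cancel_right]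

/-- `C(t)` is `theta t` times any Sylow 2-subgroup of it. -/
theorem decomp (hI : InvNPC G) {t : G} (ht : orderOf t = 2) {R : Subgroup G}
    (hR : SylIn 2 R (Subgroup.centralizer ({t} : Set G))) {g : G} (hg : g ∈ Subgroup.centralizer ({t} : Set G)) :
    ∃ k ∈ theta t, ∃ r ∈ R, g = k * r := by
  haveI : Fact (Nat.Prime 2) := ⟨Nat.prime_two⟩
  set C := Subgroup.centralizer ({t} : Set G)
  obtain ⟨P, hP⟩ := hR.exists_sylow_subgroupOf
  have hc := isComplement'_of_coprime_card P (hnpc_iff.1 (hI t ht))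
  obtain ⟨⟨n, p⟩, hnp⟩ := hc.existsUnique (⟨g, hg⟩ : ↥C) |>.exists
  refine ⟨((n : ↥C) : G), (mem_theta hI ht).2 ⟨(n : ↥C).2, ?_⟩, ((p : ↥C) : G), ?_, (congrArg Subtype.val hnp).symm⟩
  · rw [Subgroup.orderOf_coe]
    refine Nat.coprime_two_right.1 ((hnpc_iff.1 (hI t ht)).coprime_dvd_left ?_)
    rw [← Subgroup.orderOf_mk (n : ↥C) n.2]
    exact orderOf_dvd_natCard _
  · have : (p : ↥C) ∈ (P : Subgroup ↥C) := p.2
    replace this := (SetLike.ext_iff.1 hP _).1 this
    rw [Subgroup.mem_subgroupOf] at this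
    exact this

theorem centralizer_le_sup (hI : InvNPC G) {t : G} (ht : orderOf t = 2) {R : Subgroup G}
    (hR : SylIn 2 R (Subgroup.centralizer ({t} : Set G))) :
    Subgroup.centralizer ({t} : Set G) ≤ theta t ⊔ R := fun g hg => by
  obtain ⟨k, hk, r, hr, rfl⟩ := decomp hI ht hR hg
  exact mul_mem (Subgroup.mem_sup_left hk) (Subgroup.mem_sup_right hr)

theorem theta_solvable (hI : InvNPC G) {t : G} (ht : orderOf t = 2) : Group.IsSolvable ↥(theta t) :=
  Lie.CoreFun.solvable_of_odd (theta_odd hI ht)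

theorem theta_balance (hI : InvNPC G) {a b : G} (ha : orderOf a = 2) (hb : orderOf b = 2) :
    theta a ⊓ Subgroup.centralizer ({b} : Set G) ≤ theta b := fun _ hx =>
  (mem_theta hI hb).2 ⟨hx.2, ((mem_theta hI ha).1 hx.1).2⟩

/-- Trivial signalizers give centralisers which are 2-groups. -/
theorem isPGroup_centralizer (hI : InvNPC G) {t : G} (ht : orderOf t = 2) (hθ : theta t = ⊥) :
    IsPGroup 2 ↥(Subgroup.centralizer ({t} : Set G)) := by
  haveI : Fact (Nat.Prime 2) := ⟨Nat.prime_two⟩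
  obtain ⟨R, hR⟩ := exists_sylIn (p := 2) (Subgroup.centralizer ({t} : Set G))
  refine hR.isPGroup.to_le ?_
  simpa [hθ] using centralizer_le_sup hI ht hR

end Cfsg.Agent.TwoNilpCent
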