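import Cfsg.Agent.Lib.Fusion.TwoNilpCent.RankThree
import Cfsg.Agent.Lib.Fusion.StronglyEmbeddedPairs
import Cfsg.Agent.S1221

/-!
# Rank at least three: the normaliser of the signalizer group is strongly embedded

Hence its odd core is trivial and so are all the signalizers.
-/

set_option autoImplicit false
set_option linter.style.haveILetI false
set_option linter.unusedSectionVars false

open Cfsg Cfsg.Agent.Fusion Cfsg.Agent.Local
open Cfsg.Agent.Fusion.SEPairs (odd_or_common)

namespace Cfsg.Agent.TwoNilpCent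

universe u

variable {G : Type u} [Group G] [Finite G]

theorem conj_centralizer_mem {a g x : G} (hx : x ∈ Subgroup.centralizer ({a} : Set G)) :
    g * x * g⁻¹ ∈ Subgroup.centralizer ({g * a * g⁻¹} : Set G) := by
  rw [Subgroup.mem_centralizer_singleton_iff] at hx ⊢
  calc g * x * g⁻¹ * (g * a * g⁻¹) = g * (x * a) * g⁻¹ := by group
    _ = g * (a * x) * g⁻¹ := by rw [hx]
    _ = g * a * g⁻¹ * (g * x * g⁻¹) := by group

/-- Involutions with odd product are conjugate. -/
theorem isConj_of_odd {a b : G} (ha : orderOf a = 2) (hb : orderOf b = 2) (h : Odd (orderOf (a * b))) :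
    IsConj a b := by
  have hab : a * a = 1 := by rw [← sq, ← ha]; exact pow_orderOf_eq_one a
  have hbb : b * b = 1 := by rw [← sq, ← hb]; exact pow_orderOf_eq_one b
  obtain ⟨k, hk⟩ := h
  have hinv : a * (a * b) * a⁻¹ = (a * b)⁻¹ := by
    rw [mul_inv_rev, inv_eq_of_mul_eq_one_right hbb, inv_eq_of_mul_eq_one_right hab, ← mul_assoc, hab, one_mul]
  have hpow : a * (a * b) ^ k * a⁻¹ = ((a * b) ^ k)⁻¹ := by rw [← conj_pow, hinv, inv_pow]
  refine isConj_iff.2 ⟨(a * b) ^ k, ?_⟩
  have h1 : (a * b) ^ k * a = a * ((a * b) ^ k)⁻¹ := by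
    calc (a * b) ^ k * a = a⁻¹ * (a * (a * b) ^ k * a⁻¹) * (a * a) := by group
      _ = a * ((a * b) ^ k)⁻¹ := by rw [hpow, hab, mul_one, inv_eq_of_mul_eq_one_right hab]
  have h2 : ((a * b) ^ k)⁻¹ * ((a * b) ^ k)⁻¹ = a * b := by
    rw [← mul_inv_rev, inv_eq_iff_mul_eq_one, ← pow_add]
    calc (a * b) ^ (k + k) * (a * b) = (a * b) ^ (2 * k + 1) := by rw [← pow_succ, two_mul]
      _ = 1 := by rw [← hk, pow_orderOf_eq_one]
  rw [h1, mul_assoc, h2, ← mul_assoc, hab, one_mul]

namespace Base

variable {S : Sylow 2 G} {U : Subgroup G} (B : Base S U)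
include B

theorem wset_ne_top [IsSimpleGroup G] (hna : ¬ IsMulCommutative G) : wset U ≠ ⊤ := by
  intro h
  have ho := B.odd_wset
  rw [h, Subgroup.card_top] at ho
  exact hna ⟨⟨fun a b => IsSimpleGroup.comm_iff_isSolvable.2 (Lie.CoreFun.solvable_of_odd ho) a b⟩⟩

theorem wset_bot_theta [IsSimpleGroup G] (hna : ¬ IsMulCommutative G) (hW : wset U = ⊥) {a : G}
    (ha : orderOf a = 2) : theta a = ⊥ := by
  obtain ⟨b, hbS, hbU, hab⟩ := B.exists_conj_commute hna ha
  obtain ⟨g, rfl⟩ := isConj_iff.1 hab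
  have hb2 : orderOf (g * a * g⁻¹) = 2 := by
    rw [show g * a * g⁻¹ = MulAut.conj g a from rfl, MulEquiv.orderOf_eq, ha]
  obtain ⟨F, hFS, hF, hbF⟩ := B.big_of_commute hbS hb2 hbU
  have hb1 : g * a * g⁻¹ ≠ 1 := fun h => by rw [h, orderOf_one] at hb2; omega
  have hθ : theta (g * a * g⁻¹) = ⊥ := eq_bot_iff.2
    (((theta_le_wset hbF hb1).trans (B.wset_of_el8 hFS hF).le).trans hW.le)
  rw [← theta_cj] at hθ
  exact (Subgroup.map_eq_bot_iff_of_injective _ (MulAut.conj g).injective).1 hθ

theorem centralizer_le [IsSimpleGroup G] (hna : ¬ IsMulCommutative G) {a : G} (haS : a ∈ (S : Subgroup G))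
    (ha : orderOf a = 2) :
    Subgroup.centralizer ({a} : Set G) ≤ Subgroup.normalizer (wset U : Set G) := by
  classical
  haveI : Fact (Nat.Prime 2) := ⟨Nat.prime_two⟩
  have hT2 : SylIn 2 (S : Subgroup G) (Subgroup.normalizer (wset U : Set G)) :=
    (sylIn_top S).mono (Subgroup.le_normalizer.trans B.normalizer_sylow_le) le_top
  obtain ⟨n, hn⟩ : ∃ n, n = Nat.card G - Nat.card ↥((S : Subgroup G) ⊓ Subgroup.centralizer ({a} : Set G)) :=
    ⟨_, rfl⟩
  induction n using Nat.strong_induction_on generalizing a with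
  | _ n ih =>
    set M := Subgroup.normalizer (wset U : Set G) with hM
    set C := Subgroup.centralizer ({a} : Set G) with hC
    set R := (S : Subgroup G) ⊓ C with hR
    have ha1 : a ≠ 1 := fun h => by rw [h, orderOf_one] at ha; omega
    have haR : a ∈ R := ⟨haS, Subgroup.mem_centralizer_singleton_iff.2 rfl⟩
    have hRM : R ≤ M := (inf_le_left : R ≤ (S : Subgroup G)).trans hT2.le
    have hbig_theta : (∃ F : Subgroup G, F ≤ R ∧ El8 F ∧ a ∈ F) → theta a ≤ M := by
      rintro ⟨F, hFR, hF, haF⟩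
      exact ((theta_le_wset haF ha1).trans (B.wset_of_el8 (hFR.trans inf_le_left) hF).le).trans Subgroup.le_normalizer
    obtain ⟨R', hR', hRR'⟩ := exists_sylIn_ge (S.isPGroup'.to_inf_left (K := C)) (inf_le_right (a := (S : Subgroup G)))
    have haug : (∃ F : Subgroup G, F ≤ R ∧ El8 F) → ∃ F : Subgroup G, F ≤ R ∧ El8 F ∧ a ∈ F := by
      rintro ⟨F, hFR, hF⟩
      refine ⟨F ⊔ Subgroup.zpowers a, sup_le hFR (Subgroup.zpowers_le.2 haR), ⟨?_, ?_⟩,
        Subgroup.mem_sup_right (Subgroup.mem_zpowers a)⟩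
      · exact elemAb_sup hF.1 (elemAb_zpowers (by rw [← ha]; exact pow_orderOf_eq_one a)) fun f hf x hx => by
          obtain ⟨i, rfl⟩ := Subgroup.mem_zpowers_iff.1 hx
          exact ((show Commute f a from Subgroup.mem_centralizer_singleton_iff.1 (hFR hf).2).zpow_right i).eq
      · exact hF.2.trans (Subgroup.card_le_of_le le_sup_left)
    by_cases hfull : R = R'
    · -- a full Sylow subgroup of the centraliser
      obtain ⟨b, hbS, hbU, hab⟩ := B.exists_conj_commute hna ha
      obtain ⟨g, hg⟩ := isConj_iff.1 hab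
      have hb2 : orderOf b = 2 := by
        rw [← hg, show g * a * g⁻¹ = MulAut.conj g a from rfl, MulEquiv.orderOf_eq, ha]
      obtain ⟨F, hFS, hF, hbF⟩ := B.big_of_commute hbS hb2 hbU
      have hFC : cj F g⁻¹ ≤ C := by
        rintro _ ⟨f, hf, rfl⟩
        have h1 : f ∈ Subgroup.centralizer ({g * a * g⁻¹} : Set G) :=
          Subgroup.mem_centralizer_singleton_iff.2 (by rw [hg]; exact elemAb_commute hF.1 hf hbF)
        have h2 := conj_centralizer_mem (g := g⁻¹) h1
        have h3 : g⁻¹ * (g * a * g⁻¹) * g⁻¹⁻¹ = a := by group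
        rw [h3] at h2
        exact h2
      have hp : IsPGroup 2 ↥(cj F g⁻¹) := elemAb_isPGroup (elemAb_cj hF.1 _)
      obtain ⟨c, -, hc⟩ := (hfull ▸ hR' : SylIn 2 R C).conj_le hp hFC
      have hE : ∃ F : Subgroup G, F ≤ R ∧ El8 F :=
        ⟨_, hc, elemAb_cj (elemAb_cj hF.1 _) c, by rw [card_cj, card_cj]; exact hF.2⟩
      refine (centralizer_le_sup B.hI ha (hfull ▸ hR' : SylIn 2 R C)).trans (sup_le (hbig_theta (haug hE)) hRM)
    -- otherwise climb
    have hgrow := SylIn.normalizer_growth hRR' hfull hR'.isPGroup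
    set R1 := R' ⊓ Subgroup.normalizer (R : Set G) with hR1
    have hR1M : R1 ≤ M := by
      by_cases hE : ∃ F : Subgroup G, F ≤ R ∧ El8 F
      · obtain ⟨F, hFR, hF⟩ := hE
        exact inf_le_right.trans (B.normalizer_le inf_le_left hFR hF)
      -- the squares of `R` have a unique involution, the central one
      obtain ⟨z, hz2, hzS, hzc⟩ : ∃ z : G, orderOf z = 2 ∧ z ∈ (S : Subgroup G) ∧
          ∀ s ∈ (S : Subgroup G), s * z = z * s := by
        haveI : Nontrivial ↥(S : Subgroup G) := by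
          rw [Subgroup.nontrivial_iff_ne_bot]
          intro h
          rw [h, Subgroup.mem_bot] at haS
          exact ha1 haS
        haveI := S.2.center_nontrivial
        obtain ⟨k, hk0, hk⟩ := (S.2.to_subgroup (Subgroup.center ↥(S : Subgroup G))).nontrivial_iff_card.1 inferInstance
        obtain ⟨⟨⟨z, hzS⟩, hzc⟩, hz⟩ := exists_prime_orderOf_dvd_card' (G := Subgroup.center ↥(S : Subgroup G)) 2
          (hk.symm ▸ dvd_pow_self 2 hk0.ne')
        rw [Subgroup.orderOf_mk, Subgroup.orderOf_mk] at hz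
        exact ⟨z, hz, hzS, fun s hs => congrArg Subtype.val (Subgroup.mem_center_iff.1 hzc ⟨s, hs⟩)⟩
      have haU : a ∉ Subgroup.centralizer (U : Set G) := fun h => hE (by
        obtain ⟨F, hFS, hF, haF⟩ := B.big_of_commute haS ha h
        exact ⟨F, le_inf hFS fun f hf => Subgroup.mem_centralizer_singleton_iff.2 (elemAb_commute hF.1 hf haF), hF⟩)
      have hz1 : z ≠ 1 := fun h => by rw [h, orderOf_one] at hz2; omega
      have hzR : z ∈ R := ⟨hzS, Subgroup.mem_centralizer_singleton_iff.2 (hzc a haS).symm⟩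
      have hzU : z ∈ Subgroup.centralizer (U : Set G) := Subgroup.mem_centralizer_iff.2 fun u hu => hzc u (B.le hu)
      -- the involutions of `R` centralising `U`
      have honly : ∀ b ∈ R, orderOf b = 2 → b ∈ Subgroup.centralizer (U : Set G) → b = z := by
        intro b hbR hb2 hbU
        by_contra hne
        refine hE ⟨Subgroup.closure {a, b, z}, (Subgroup.closure_le _).2 ?_, ?_, ?_⟩
        · rintro x (rfl | rfl | rfl)
          exacts [haR, hbR, hzR]
        · refine elemAb_closure _ ?_ ?_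
          · have e1 : b * a = a * b := Subgroup.mem_centralizer_singleton_iff.1 hbR.2
            have e2 := hzc a haS
            have e3 := hzc b hbR.1
            rintro x (rfl | rfl | rfl) y (rfl | rfl | rfl)
            exacts [rfl, e1.symm, e2, e1, rfl, e3, e2.symm, e3.symm, rfl]
          · rintro x (rfl | rfl | rfl)
            · rw [← ha]; exact pow_orderOf_eq_one _
            · rw [← hb2]; exact pow_orderOf_eq_one _
            · rw [← hz2]; exact pow_orderOf_eq_one _
        · set K := Subgroup.closure ({a, b, z} : Set G)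
          set L := Subgroup.closure ({b, z} : Set G)
          have hLK : L ≤ K := Subgroup.closure_mono (by intro x hx; exact Or.inr hx)
          have hLU : L ≤ Subgroup.centralizer (U : Set G) := (Subgroup.closure_le _).2 (by
            rintro x (rfl | rfl); exacts [hbU, hzU])
          have haL : a ∉ L := fun h => haU (hLU h)
          have hK : Cfsg.IsElementaryAbelian 2 K := by
            refine elemAb_closure _ ?_ ?_
            · have e1 : b * a = a * b := Subgroup.mem_centralizer_singleton_iff.1 hbR.2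
              have e2 := hzc a haS
              have e3 := hzc b hbR.1
              rintro x (rfl | rfl | rfl) y (rfl | rfl | rfl)
              exacts [rfl, e1.symm, e2, e1, rfl, e3, e2.symm, e3.symm, rfl]
            · rintro x (rfl | rfl | rfl)
              · rw [← ha]; exact pow_orderOf_eq_one _
              · rw [← hb2]; exact pow_orderOf_eq_one _
              · rw [← hz2]; exact pow_orderOf_eq_one _
          obtain ⟨i, hi⟩ := elemAb_card_pow (elemAb_mono hK hLK)
          obtain ⟨j, hj⟩ := elemAb_card_pow hK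
          have hL4 : 2 < Nat.card ↥L := by
            have hb1 : b ≠ 1 := fun h => by rw [h, orderOf_one] at hb2; omega
            let v : Fin 3 → L := ![1, ⟨b, Subgroup.subset_closure (Or.inl rfl)⟩, ⟨z, Subgroup.subset_closure (Or.inr rfl)⟩]
            have hv : Function.Injective v := by
              intro i j h
              fin_cases i <;> fin_cases j <;>
                first
                  | rfl
                  | (exfalso; simp [v, Subtype.ext_iff, hb1, hz1, hne, Ne.symm hb1, Ne.symm hz1, Ne.symm hne] at h)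
            have := Nat.card_le_card_of_injective v hv
            rw [Nat.card_fin] at this
            omega
          have hlt : Nat.card ↥L < Nat.card ↥K := by
            refine lt_of_le_of_ne (Subgroup.card_le_of_le hLK) fun e => haL ?_
            rw [Subgroup.eq_of_le_of_card_ge hLK e.ge]
            exact Subgroup.subset_closure (Or.inl rfl)
          rw [hi] at hL4 hlt
          rw [hj] at hlt ⊢
          have : i < j := (Nat.pow_lt_pow_iff_right one_lt_two).1 hlt
          have : 2 ≤ i := by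
            by_contra hh
            have : 2 ^ i ≤ 2 ^ 1 := Nat.pow_le_pow_right two_pos (by omega)
            omega
          exact (show 8 ≤ 2 ^ 3 by norm_num).trans (Nat.pow_le_pow_right two_pos (by omega))
      -- squares of elements of `R` centralise `U`
      have hsq : ∀ r ∈ R, r * r ∈ Subgroup.centralizer (U : Set G) := by
        intro r hr
        set H := (Subgroup.centralizer (U : Set G)).subgroupOf (S : Subgroup G)
        have hidx : H.index ≤ 2 := B.relIndex_centralizer
        have : (⟨r, hr.1⟩ : ↥(S : Subgroup G)) * ⟨r, hr.1⟩ ∈ H := by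
          rcases Nat.eq_or_lt_of_le hidx with h | h
          · exact Subgroup.mul_self_mem_of_index_two h _
          · have h0 : H.index ≠ 0 := Subgroup.index_ne_zero_of_finite
            rw [Subgroup.index_eq_one.1 (by omega : H.index = 1)]
            exact Subgroup.mem_top _
        exact Subgroup.mem_subgroupOf.1 this
      by_cases hexp : ∀ r ∈ R, r * r = 1
      · -- then `a` would have a centraliser of order four in `S`
        exfalso
        obtain ⟨E, hES, hE'⟩ := B.rank
        refine card_centralizer_ne_four S.isPGroup' (E.subgroupOf (S : Subgroup G))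
          ⟨⟨⟨fun x y => Subtype.ext (Subtype.ext (elemAb_commute hE'.1 x.2 y.2))⟩⟩, fun x hx => Subtype.ext (hE'.1.2 _ hx)⟩
          (by rw [Nat.card_congr (Subgroup.subgroupOfEquivOfLe hES).toEquiv]; exact hE'.2) ⟨a, haS⟩ ?_
        -- `R` consists of `1`, `a`, `z` and `a * z`
        have hR4 : ∀ r ∈ R, r = 1 ∨ r = z ∨ r = a ∨ r = z * a := by
          intro r hr
          by_cases hrU : r ∈ Subgroup.centralizer (U : Set G)
          · by_cases hr1 : r = 1
            · exact Or.inl hr1
            · exact Or.inr (Or.inl (honly r hr (orderOf_eq_prime (by rw [sq]; exact hexp r hr) hr1) hrU))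
          · have hraU : r * a ∈ Subgroup.centralizer (U : Set G) := by
              set H := (Subgroup.centralizer (U : Set G)).subgroupOf (S : Subgroup G)
              have hidx : H.index = 2 := by
                refine le_antisymm B.relIndex_centralizer (Nat.one_lt_iff_ne_zero_and_ne_one.2 ⟨Subgroup.index_ne_zero_of_finite, fun h => haU ?_⟩)
                exact Subgroup.mem_subgroupOf.1 ((Subgroup.index_eq_one.1 h).ge (Subgroup.mem_top (⟨a, haS⟩ : ↥(S : Subgroup G))))
              have := (Subgroup.mul_mem_iff_of_index_two hidx (a := (⟨r, hr.1⟩ : ↥(S : Subgroup G))) (b := ⟨a, haS⟩)).2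
                (iff_of_false (fun h => hrU (Subgroup.mem_subgroupOf.1 h)) (fun h => haU (Subgroup.mem_subgroupOf.1 h)))
              exact Subgroup.mem_subgroupOf.1 this
            have haa : a * a = 1 := hexp a haR
            by_cases h1 : r * a = 1
            · refine Or.inr (Or.inr (Or.inl ?_))
              calc r = (r * a) * a := by rw [mul_assoc, haa, mul_one]
                _ = a := by rw [h1, one_mul]
            · have hra : r * a ∈ R := mul_mem hr haR
              have := honly _ hra (orderOf_eq_prime (by rw [sq]; exact hexp _ hra) h1) hraU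
              refine Or.inr (Or.inr (Or.inr ?_))
              rw [← this, mul_assoc, haa, mul_one]
        refine le_trans (Nat.card_le_card_of_surjective
          (fun i : Fin 4 => (![1, ⟨⟨z, hzS⟩, Subgroup.mem_centralizer_singleton_iff.2 (Subtype.ext (hzc a haS).symm)⟩,
            ⟨⟨a, haS⟩, Subgroup.mem_centralizer_singleton_iff.2 rfl⟩,
            ⟨⟨z * a, mul_mem hzS haS⟩, Subgroup.mem_centralizer_singleton_iff.2 (Subtype.ext (by
              show z * a * a = a * (z * a)
              rw [← mul_assoc, hzc a haS]))⟩] i :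
            ↥(Subgroup.centralizer ({⟨a, haS⟩} : Set ↥(S : Subgroup G))))) ?_) (by simp)
        rintro ⟨⟨r, hrS⟩, hr⟩
        have hrR : r ∈ R := ⟨hrS, Subgroup.mem_centralizer_singleton_iff.2
          (congrArg Subtype.val (Subgroup.mem_centralizer_singleton_iff.1 hr))⟩
        rcases hR4 r hrR with h | h | h | h
        · exact ⟨0, Subtype.ext (Subtype.ext h.symm)⟩
        · exact ⟨1, Subtype.ext (Subtype.ext h.symm)⟩
        · exact ⟨2, Subtype.ext (Subtype.ext h.symm)⟩
        · exact ⟨3, Subtype.ext (Subtype.ext h.symm)⟩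
      push Not at hexp
      obtain ⟨r₀, hr₀, hr₀1⟩ := hexp
      set Q := Subgroup.closure ((fun r => r * r) '' (R : Set G))
      have hQU : Q ≤ R ⊓ Subgroup.centralizer (U : Set G) := (Subgroup.closure_le _).2 (by
        rintro _ ⟨r, hr, rfl⟩; exact ⟨mul_mem hr hr, hsq r hr⟩)
      have hQn : ∀ g ∈ R1, ∀ q ∈ Q, g * q * g⁻¹ ∈ Q := by
        intro g hg q hq
        have hmap : Q.map (MulAut.conj g).toMonoidHom ≤ Q := by
          rw [MonoidHom.map_closure, Subgroup.closure_le]
          rintro _ ⟨_, ⟨r, hr, rfl⟩, rfl⟩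
          exact Subgroup.subset_closure ⟨g * r * g⁻¹, (Subgroup.mem_normalizer_iff.1 hg.2 r).1 hr, by simp [mul_assoc]⟩
        exact hmap ⟨q, hq, rfl⟩
      have hzQ : z ∈ Q := by
        have hq0 : Q ≠ ⊥ := fun h => hr₀1 ((Subgroup.mem_bot).1 (h ▸ Subgroup.subset_closure ⟨r₀, hr₀, rfl⟩ : r₀ * r₀ ∈ (⊥ : Subgroup G)))
        haveI : Nontrivial ↥Q := (Subgroup.nontrivial_iff_ne_bot Q).2 hq0
        obtain ⟨k, hk0, hk⟩ := (S.isPGroup'.to_le (hQU.trans (inf_le_left.trans inf_le_left))).nontrivial_iff_card.1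
          (inferInstance : Nontrivial ↥Q)
        obtain ⟨q, hq⟩ := exists_prime_orderOf_dvd_card' (G := ↥Q) 2 (hk.symm ▸ dvd_pow_self 2 hk0.ne')
        rw [← Subgroup.orderOf_coe] at hq
        rw [← honly q (hQU q.2).1 hq (hQU q.2).2]
        exact q.2
      intro g hg
      have hgz : g * z * g⁻¹ = z := honly _ (hQU (hQn g hg z hzQ)).1
        (by rw [show g * z * g⁻¹ = MulAut.conj g z from rfl, MulEquiv.orderOf_eq, hz2]) (hQU (hQn g hg z hzQ)).2
      have hgC : g ∈ Subgroup.centralizer ({z} : Set G) :=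
        Subgroup.mem_centralizer_singleton_iff.2 (mul_inv_eq_iff_eq_mul.1 hgz)
      obtain ⟨F, hFS, hF, hzF⟩ := B.big_of_commute hzS hz2 hzU
      refine (centralizer_le_sup B.hI hz2 ((sylIn_top S).mono (fun s hs =>
        Subgroup.mem_centralizer_singleton_iff.2 (hzc s hs)) le_top)).trans (sup_le ?_ hT2.le) hgC
      exact ((theta_le_wset hzF hz1).trans (B.wset_of_el8 hFS hF).le).trans Subgroup.le_normalizer
    -- move `R1` into `S`
    obtain ⟨m, hm, hmR⟩ := hT2.conj_le (hR'.isPGroup.to_le inf_le_left) hR1M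
    have haR1 : a ∈ R1 := hgrow.le haR
    have ha' : m * a * m⁻¹ ∈ (S : Subgroup G) := hmR (conj_mem_cj haR1)
    have ha'2 : orderOf (m * a * m⁻¹) = 2 := by
      rw [show m * a * m⁻¹ = MulAut.conj m a from rfl, MulEquiv.orderOf_eq, ha]
    have hsub : cj R1 m ≤ (S : Subgroup G) ⊓ Subgroup.centralizer ({m * a * m⁻¹} : Set G) := by
      refine le_inf hmR ?_
      rintro _ ⟨x, hx, rfl⟩
      exact conj_centralizer_mem (hR'.le hx.1)
    have hlt : Nat.card ↥R < Nat.card ↥((S : Subgroup G) ⊓ Subgroup.centralizer ({m * a * m⁻¹} : Set G)) := by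
      refine lt_of_lt_of_le ?_ ((card_cj R1 m).symm.le.trans (Subgroup.card_le_of_le hsub))
      exact lt_of_le_of_ne (Subgroup.card_le_of_le hgrow.le) fun e =>
        hgrow.ne (Subgroup.eq_of_le_of_card_ge hgrow.le e.ge)
    have hbound := Subgroup.card_le_card_group ((S : Subgroup G) ⊓ Subgroup.centralizer ({m * a * m⁻¹} : Set G))
    have hrec := ih _ (by omega) ha' ha'2 rfl
    intro x hx
    have := mul_mem (mul_mem (inv_mem hm) (hrec (conj_centralizer_mem (g := m) hx))) hm
    rwa [show m⁻¹ * (m * x * m⁻¹) * m = x by group] at this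

theorem isStronglyEmbedded [IsSimpleGroup G] (hna : ¬ IsMulCommutative G) (hW : wset U ≠ ⊥) :
    Cfsg.IsStronglyEmbedded (Subgroup.normalizer (wset U : Set G)) := by
  classical
  haveI : Fact (Nat.Prime 2) := ⟨Nat.prime_two⟩
  set M := Subgroup.normalizer (wset U : Set G) with hM
  have hMtop : M ≠ ⊤ := by
    intro h
    rcases (Subgroup.normalizer_eq_top_iff.1 h).eq_bot_or_eq_top with h' | h'
    · exact hW h'
    · exact B.wset_ne_top hna h'
  have hSM : (S : Subgroup G) ≤ M := Subgroup.le_normalizer.trans B.normalizer_sylow_le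
  have hT2 : SylIn 2 (S : Subgroup G) M := (sylIn_top S).mono hSM le_top
  have conjS : ∀ w ∈ M, orderOf w = 2 → ∃ m ∈ M, m * w * m⁻¹ ∈ (S : Subgroup G) := fun w hw hw2 => by
    obtain ⟨m, hm, hle⟩ := hT2.conj_le (IsPGroup.of_card (n := 1) (by rw [Nat.card_zpowers, hw2, pow_one]))
      (Subgroup.zpowers_le.2 hw)
    exact ⟨m, hm, hle (conj_mem_cj (Subgroup.mem_zpowers w))⟩
  have hcent : ∀ w ∈ M, orderOf w = 2 → Subgroup.centralizer ({w} : Set G) ≤ M := by
    intro w hw hw2 x hx
    obtain ⟨m, hm, hmS⟩ := conjS w hw hw2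
    have := B.centralizer_le hna hmS
      (by rw [show m * w * m⁻¹ = MulAut.conj m w from rfl, MulEquiv.orderOf_eq, hw2])
      (conj_centralizer_mem (g := m) hx)
    have := mul_mem (mul_mem (inv_mem hm) this) hm
    rwa [show m⁻¹ * (m * x * m⁻¹) * m = x by group] at this
  obtain ⟨u, huU, hu1⟩ : ∃ u ∈ U, u ≠ 1 := by
    by_contra h
    push Not at h
    have := Subgroup.card_le_of_le (show U ≤ ⊥ from fun u hu => Subgroup.mem_bot.2 (h u hu))
    rw [B.card, Subgroup.card_bot] at this
    omega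
  have hu2 := orderOf_of_mem B.elem huU hu1
  have huM : u ∈ M := hSM (B.le huU)
  -- a single class of involutions
  have hone : ∀ v : G, orderOf v = 2 → IsConj u v := by
    intro v hv
    by_contra hnc
    have hcls : ∀ w ∈ M, orderOf w = 2 → ∀ x : G, orderOf x = 2 → ¬ IsConj w x → x ∈ M := by
      intro w hw hw2 x hx2 hne
      rcases odd_or_common hw2 hx2 with h | ⟨y, hy2, hyw, hyx⟩
      · exact absurd (isConj_of_odd hw2 hx2 h) hne
      · exact hcent y (hcent w hw hw2 (Subgroup.mem_centralizer_singleton_iff.2 hyw.eq)) hy2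
          (Subgroup.mem_centralizer_singleton_iff.2 hyx.eq.symm)
    have hvM := hcls u huM hu2 v hv hnc
    have hall : ∀ g : G, g * u * g⁻¹ ∈ M := fun g => hcls v hvM hv _
      (by rw [show g * u * g⁻¹ = MulAut.conj g u from rfl, MulEquiv.orderOf_eq, hu2])
      fun hc => hnc ((isConj_iff.2 ⟨g, rfl⟩ : IsConj u (g * u * g⁻¹)).trans hc.symm)
    have hle : Subgroup.normalClosure ({u} : Set G) ≤ M := by
      rw [Subgroup.normalClosure, Subgroup.closure_le]
      intro y hy
      obtain ⟨g, hg⟩ := isConj_iff.1 ((Group.mem_conjugatesOfSet_iff.1 hy).elim fun w hw => (Set.mem_singleton_iff.1 hw.1) ▸ hw.2)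
      exact hg ▸ hall g
    rcases (Subgroup.normalClosure_normal (s := ({u} : Set G))).eq_bot_or_eq_top with h | h
    · exact hu1 (Subgroup.mem_bot.1 (h ▸ Subgroup.subset_normalClosure (Set.mem_singleton u)))
    · exact hMtop (top_le_iff.1 (h ▸ hle))
  -- a central involution
  obtain ⟨z, hz2, hzS, hzc⟩ : ∃ z : G, orderOf z = 2 ∧ z ∈ (S : Subgroup G) ∧
      ∀ s ∈ (S : Subgroup G), s * z = z * s := by
    haveI : Nontrivial ↥(S : Subgroup G) := by
      rw [Subgroup.nontrivial_iff_ne_bot]
      intro h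
      exact hu1 (Subgroup.mem_bot.1 (h ▸ B.le huU))
    haveI := S.2.center_nontrivial
    obtain ⟨k, hk0, hk⟩ := (S.2.to_subgroup (Subgroup.center ↥(S : Subgroup G))).nontrivial_iff_card.1 inferInstance
    obtain ⟨⟨⟨z, hzS⟩, hzc⟩, hz⟩ := exists_prime_orderOf_dvd_card' (G := Subgroup.center ↥(S : Subgroup G)) 2
      (hk.symm ▸ dvd_pow_self 2 hk0.ne')
    rw [Subgroup.orderOf_mk, Subgroup.orderOf_mk] at hz
    exact ⟨z, hz, hzS, fun s hs => congrArg Subtype.val (Subgroup.mem_center_iff.1 hzc ⟨s, hs⟩)⟩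
  -- involutions of `M` are conjugate in `M` to the central one
  have htoz : ∀ w ∈ M, orderOf w = 2 → ∃ m ∈ M, m * w * m⁻¹ = z := by
    intro w hw hw2
    obtain ⟨g, hg⟩ := isConj_iff.1 (((hone w hw2).symm).trans (hone z hz2))
    -- a Sylow subgroup centralising `w`
    set P := cj (S : Subgroup G) g⁻¹ with hP
    have hPw : P ≤ Subgroup.centralizer ({w} : Set G) := by
      rintro _ ⟨s, hs, rfl⟩
      have h1 : s ∈ Subgroup.centralizer ({g * w * g⁻¹} : Set G) :=
        Subgroup.mem_centralizer_singleton_iff.2 (by rw [hg]; exact hzc s hs)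
      have h2 := conj_centralizer_mem (g := g⁻¹) h1
      rw [show g⁻¹ * (g * w * g⁻¹) * g⁻¹⁻¹ = w by group] at h2
      exact h2
    obtain ⟨m, hm, hmP⟩ := hT2.conj_le (isPGroup_cj S.isPGroup' g⁻¹) (hPw.trans (hcent w hw hw2))
    have hPeq : cj P m = (S : Subgroup G) :=
      Subgroup.eq_of_le_of_card_ge hmP (by rw [card_cj, card_cj])
    -- both are central in `S`
    set n := m * g⁻¹ with hn
    have hnN : n ∈ Subgroup.normalizer ((S : Subgroup G) : Set G) := by
      refine mem_normalizer_iff_cj.2 ?_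
      rw [hn, ← cj_cj]; exact hPeq
    refine ⟨n⁻¹ * m, mul_mem (inv_mem (B.normalizer_sylow_le hnN)) hm, ?_⟩
    rw [hn, show (m * g⁻¹)⁻¹ * m * w * ((m * g⁻¹)⁻¹ * m)⁻¹ = g * w * g⁻¹ by group, hg]
  refine ⟨hMtop, ?_, fun g hg => Nat.not_even_iff_odd.1 fun he => hg ?_⟩
  · rw [even_iff_two_dvd, ← hu2]
    exact Subgroup.orderOf_dvd_natCard _ huM
  obtain ⟨x', hx'0⟩ := exists_prime_orderOf_dvd_card' 2 (even_iff_two_dvd.1 he)
  rw [← Subgroup.orderOf_coe] at hx'0
  obtain ⟨hxM, hxg⟩ := x'.2
  set x := (x' : G) with hxdef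
  have hx : orderOf x = 2 := hx'0
  have hxg' := mem_cj.1 hxg
  have hx' : orderOf (g⁻¹ * x * g) = 2 := by
    rw [show g⁻¹ * x * g = MulAut.conj g⁻¹ x by simp, MulEquiv.orderOf_eq, hx]
  obtain ⟨m₁, hm₁, h₁⟩ := htoz x hxM hx
  obtain ⟨m₂, hm₂, h₂⟩ := htoz _ hxg' hx'
  have hmid : m₂ * g⁻¹ * m₁⁻¹ ∈ M := by
    refine hcent z (hSM hzS) hz2 (Subgroup.mem_centralizer_singleton_iff.2 ?_)
    calc m₂ * g⁻¹ * m₁⁻¹ * z = m₂ * g⁻¹ * m₁⁻¹ * (m₁ * x * m₁⁻¹) := by rw [h₁]
      _ = m₂ * (g⁻¹ * x * g) * m₂⁻¹ * (m₂ * g⁻¹ * m₁⁻¹) := by group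
      _ = z * (m₂ * g⁻¹ * m₁⁻¹) := by rw [h₂]
  have := mul_mem (mul_mem (inv_mem hm₁) (inv_mem hmid)) hm₂
  rwa [show m₁⁻¹ * (m₂ * g⁻¹ * m₁⁻¹)⁻¹ * m₂ = g by group] at this

theorem theta_eq_bot [IsSimpleGroup G] (hna : ¬ IsMulCommutative G) {a : G} (ha : orderOf a = 2) :
    theta a = ⊥ := by
  by_cases hW : wset U = ⊥
  · exact B.wset_bot_theta hna hW ha
  exfalso
  set M := Subgroup.normalizer (wset U : Set G) with hM
  have h := S1221.result M (B.isStronglyEmbedded hna hW)
  have hO : Cfsg.oddCore G = ⊥ := by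
    refine (inferInstance : (Cfsg.oddCore G).Normal).eq_bot_or_eq_top.resolve_right fun htop => hna ?_
    have ho : Odd (Nat.card ↥(Cfsg.oddCore G)) := Char.card_oddCore_odd G
    rw [htop, Subgroup.card_top] at ho
    exact ⟨⟨fun x y => IsSimpleGroup.comm_iff_isSolvable.2 (Lie.CoreFun.solvable_of_odd ho) x y⟩⟩
  rw [hO] at h
  have hWM : wset U ≤ M := Subgroup.le_normalizer
  haveI : ((wset U).subgroupOf M).Normal := Subgroup.normal_subgroupOf_iff_le_normalizer hWM |>.2 le_rfl
  have hle : (wset U).subgroupOf M ≤ Cfsg.oddCore ↥M := Fusion.le_pPrimeCore (by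
    rw [Nat.card_congr (Subgroup.subgroupOfEquivOfLe hWM).toEquiv]
    exact Nat.coprime_two_right.2 B.odd_wset)
  refine hW (le_bot_iff.1 fun w hw => h ⟨⟨w, hWM hw⟩, hle ?_, rfl⟩)
  exact Subgroup.mem_subgroupOf.2 hw

end Base

end Cfsg.Agent.TwoNilpCent
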