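import Cfsg.Agent.Lib.Fusion.TwoNilpCent.Basic
import Cfsg.Agent.Lib.Fusion.PiClosed.UnitaryChar
import Cfsg.Agent.Lib.Char.ZStar

/-!
# The type of `U₃(4)` does not occur
-/

set_option autoImplicit false
set_option linter.style.haveILetI false
set_option linter.unusedSectionVars false

open Cfsg Cfsg.Agent.Fusion
open Cfsg.Agent.PiClosed (omegaZ mem_omegaZ omegaZ_le omegaZ_normalizer Facts eq_of_conj_by_core
  le_centralizer_omegaZ orderOf_involution)

namespace Cfsg.Agent.TwoNilpCent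

universe u

variable {G : Type u} [Group G] [Finite G]

omit [Finite G] in
theorem conj_centralizer' {a g x : G} (hx : x ∈ Subgroup.centralizer ({a} : Set G)) :
    g * x * g⁻¹ ∈ Subgroup.centralizer ({g * a * g⁻¹} : Set G) := by
  rw [Subgroup.mem_centralizer_singleton_iff] at hx ⊢
  calc g * x * g⁻¹ * (g * a * g⁻¹) = g * (x * a) * g⁻¹ := by group
    _ = g * (a * x) * g⁻¹ := by rw [hx]
    _ = g * a * g⁻¹ * (g * x * g⁻¹) := by group

theorem inf_theta_eq_bot (hI : InvNPC G) {P : Subgroup G} (hP : IsPGroup 2 P) {t : G} (ht : orderOf t = 2) :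
    P ⊓ theta t = ⊥ := by
  refine Subgroup.inf_eq_bot_of_coprime ?_
  obtain ⟨j, hj⟩ := IsPGroup.iff_card.1 hP
  rw [hj]
  exact (Nat.coprime_two_left.2 (theta_odd hI ht)).pow_left _

theorem not_unitary_type [IsSimpleGroup G] (hna : ¬ IsMulCommutative G) (hI : InvNPC G) (S : Sylow 2 G)
    (hinv : ∀ x ∈ (S : Subgroup G), x * x = 1 → x ∈ omegaZ (S : Subgroup G))
    (hS : Facts (S : Subgroup G)) : False := by
  classical
  haveI : Fact (Nat.Prime 2) := ⟨Nat.prime_two⟩
  haveI : Fintype G := Fintype.ofFinite G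
  set T := (S : Subgroup G) with hT
  set E := omegaZ T with hE
  -- the order of `E`
  have hcard : Nat.card ↥E = 4 := by
    obtain ⟨θ, hθs, hθ⟩ := hS.planes
    have hk : θ.ker = E.subgroupOf T := by
      ext x; rw [MonoidHom.mem_ker, Subgroup.mem_subgroupOf]; exact hθ x
    have h := θ.ker.card_mul_index
    rw [Subgroup.index_ker, MonoidHom.range_eq_top.2 hθs, Subgroup.card_top, hS.card, hk,
      Nat.card_congr (Subgroup.subgroupOfEquivOfLe (omegaZ_le T)).toEquiv,
      Nat.card_congr Multiplicative.toAdd, Nat.card_eq_fintype_card (α := Fin 4 → ZMod 2), Fintype.card_fun,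
      Fintype.card_fin, ZMod.card] at h
    rw [← hE] at h
    norm_num at h ⊢
    omega
  have hne1 : ∀ {w : G}, orderOf w = 2 → w ≠ 1 := fun hw h => by rw [h, orderOf_one] at hw; omega
  have hsyl : ∀ {w : G}, w ∈ E → SylIn 2 T (Subgroup.centralizer ({w} : Set G)) := fun hw =>
    (sylIn_top S).mono (le_centralizer_omegaZ hw) le_top
  -- the centraliser of `w` in `E` acts on `S` through `S`
  have hcore : ∀ {w g x : G}, w ∈ E → w ≠ 1 → g ∈ Subgroup.centralizer ({w} : Set G) → x ∈ T →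
      g * x * g⁻¹ ∈ T → ∃ s ∈ T, g * x * g⁻¹ = s * x * s⁻¹ := by
    intro w g x hw hw1 hg hx hgx
    have hw2 := orderOf_involution hw.2.1 hw1
    obtain ⟨k, hk, s, hs, rfl⟩ := decomp hI hw2 (hsyl hw) hg
    have hy : s * x * s⁻¹ ∈ T := mul_mem (mul_mem hs hx) (inv_mem hs)
    have hgx' : k * (s * x * s⁻¹) * k⁻¹ ∈ T := by
      rw [show k * (s * x * s⁻¹) * k⁻¹ = k * s * x * (k * s)⁻¹ by group]; exact hgx
    refine ⟨s, hs, ?_⟩
    rw [show k * s * x * (k * s)⁻¹ = k * (s * x * s⁻¹) * k⁻¹ by group]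
    exact eq_of_conj_by_core (inf_theta_eq_bot hI S.isPGroup' hw2) hy hk
      (centralizer_le_normalizer_theta w ((hsyl hw).le hy)) hgx'
  -- an element of the normaliser moving an involution of `E`
  haveI : Nontrivial ↥E := Finite.one_lt_card_iff_nontrivial.1 (by rw [hcard]; norm_num)
  obtain ⟨⟨z, hzE⟩, hz⟩ := exists_ne (1 : ↥E)
  have hz1 : z ≠ 1 := fun h => hz (Subtype.ext h)
  have hz2 := orderOf_involution hzE.2.1 hz1
  obtain ⟨n, hnN, hnz⟩ : ∃ n ∈ Subgroup.normalizer (T : Set G), n * z * n⁻¹ ≠ z := by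
    have hni : ¬ Cfsg.IsIsolatedInvolution z := by
      intro hiso
      have hO : Cfsg.oddCore G = ⊥ := by
        refine (inferInstance : (Cfsg.oddCore G).Normal).eq_bot_or_eq_top.resolve_right fun htop => hna ?_
        have ho : Odd (Nat.card ↥(Cfsg.oddCore G)) := Char.card_oddCore_odd G
        rw [htop, Subgroup.card_top] at ho
        exact ⟨⟨fun x y => IsSimpleGroup.comm_iff_isSolvable.2 (Lie.CoreFun.solvable_of_odd ho) x y⟩⟩
      refine hna ?_
      have hc : z ∈ Subgroup.center G := Subgroup.mem_center_iff.2 fun g => by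
        have := Char.zStar_isolated hiso g
        rw [hO, Subgroup.mem_bot] at this
        exact (commutatorElement_eq_one_iff_mul_comm.1 this).symm
      rcases (Subgroup.center G).normal_of_characteristic.eq_bot_or_eq_top with h | h
      · exact absurd (Subgroup.mem_bot.1 (h ▸ hc)) hz1
      · exact ⟨⟨fun a b => Subgroup.mem_center_iff.1 (h ▸ Subgroup.mem_top b) a⟩⟩
    simp only [Cfsg.IsIsolatedInvolution, hz2, true_and, not_forall] at hni
    obtain ⟨g, hc, hne⟩ := hni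
    have hg2 : orderOf (g * z * g⁻¹) = 2 := by
      rw [show g * z * g⁻¹ = MulAut.conj g z from rfl, MulEquiv.orderOf_eq, hz2]
    obtain ⟨c, hcC, hcS⟩ := (hsyl hzE).conj_le (Q := Subgroup.zpowers (g * z * g⁻¹))
      (IsPGroup.of_card (n := 1) (by rw [Nat.card_zpowers, hg2, pow_one]))
      (Subgroup.zpowers_le.2 (Subgroup.mem_centralizer_singleton_iff.2 hc.eq.symm))
    set e' := c * (g * z * g⁻¹) * c⁻¹ with he'
    have he'S : e' ∈ T := hcS (conj_mem_cj (Subgroup.mem_zpowers _))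
    have he'2 : orderOf e' = 2 := by
      rw [he', show c * (g * z * g⁻¹) * c⁻¹ = MulAut.conj c (g * z * g⁻¹) from rfl, MulEquiv.orderOf_eq, hg2]
    have he'E : e' ∈ E := hinv e' he'S (by rw [← sq, ← he'2]; exact pow_orderOf_eq_one e')
    have hcz : c * z * c⁻¹ = z := by rw [Subgroup.mem_centralizer_singleton_iff.1 hcC, mul_inv_cancel_right]
    have he'z : e' ≠ z := fun h => hne (by
      have : c * (g * z * g⁻¹) * c⁻¹ = c * z * c⁻¹ := by rw [← he', h, hcz]
      exact mul_left_cancel (mul_right_cancel this))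
    set d := c * g with hd
    have hdz : d * z * d⁻¹ = e' := by rw [hd, he']; group
    have hdT : cj T d ≤ Subgroup.centralizer ({e'} : Set G) := by
      rintro _ ⟨s, hs, rfl⟩
      rw [Subgroup.mem_centralizer_singleton_iff, ← hdz]
      show d * s * d⁻¹ * (d * z * d⁻¹) = d * z * d⁻¹ * (d * s * d⁻¹)
      calc d * s * d⁻¹ * (d * z * d⁻¹) = d * (s * z) * d⁻¹ := by group
        _ = d * (z * s) * d⁻¹ := by rw [hzE.2.2 s hs]
        _ = d * z * d⁻¹ * (d * s * d⁻¹) := by group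
    obtain ⟨c', hc'C, hc'S⟩ := (hsyl he'E).conj_le (isPGroup_cj S.isPGroup' d) hdT
    refine ⟨c' * d, mem_normalizer_iff_cj.2 ?_, fun h => he'z ?_⟩
    · rw [← cj_cj]; exact Subgroup.eq_of_le_of_card_ge hc'S (by rw [card_cj, card_cj])
    · rw [show c' * d * z * (c' * d)⁻¹ = c' * (d * z * d⁻¹) * c'⁻¹ by group, hdz,
        Subgroup.mem_centralizer_singleton_iff.1 hc'C, mul_inv_cancel_right] at h
      exact h
  obtain ⟨a, e, f, haN, -, he, hf, he1, hf1, hef, h1, h2, h3, hall⟩ :=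
    PiClosed.exists_cycle_of S hcard hzE hz1 hnN hnz
  -- elements of `N(S)` fixing `e` act as inner automorphisms
  have hact : ∀ m ∈ Subgroup.normalizer (T : Set G), m * e * m⁻¹ = e →
      ∃ s ∈ T, ∀ x ∈ T, m * x * m⁻¹ = s * x * s⁻¹ := by
    intro m hm hme
    have he2 := orderOf_involution he.2.1 he1
    obtain ⟨k, hk, s, hs, rfl⟩ := decomp hI he2 (hsyl he)
      (Subgroup.mem_centralizer_singleton_iff.2 (mul_inv_eq_iff_eq_mul.1 hme))
    refine ⟨s, hs, fun x hx => ?_⟩
    have hy : s * x * s⁻¹ ∈ T := mul_mem (mul_mem hs hx) (inv_mem hs)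
    rw [show k * s * x * (k * s)⁻¹ = k * (s * x * s⁻¹) * k⁻¹ by group]
    refine eq_of_conj_by_core (inf_theta_eq_bot hI S.isPGroup' he2) hy hk
      (centralizer_le_normalizer_theta e ((hsyl he).le hy)) ?_
    rw [show k * (s * x * s⁻¹) * k⁻¹ = k * s * x * (k * s)⁻¹ by group]
    exact (Subgroup.mem_normalizer_iff.1 hm x).1 hx
  -- the normaliser cycles the involutions
  have hmove : ∀ u ∈ E, u ≠ 1 → ∀ v ∈ E, v ≠ 1 → ∃ m ∈ Subgroup.normalizer (T : Set G), m * u * m⁻¹ = v := by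
    have hto : ∀ u ∈ E, u ≠ 1 → ∃ m ∈ Subgroup.normalizer (T : Set G), m * e * m⁻¹ = u := by
      intro u hu hu1
      rcases hall u hu with h | h | h | h
      · exact absurd h hu1
      · exact ⟨1, one_mem _, by simp [h]⟩
      · exact ⟨a, haN, h1.trans h.symm⟩
      · refine ⟨a * a, mul_mem haN haN, ?_⟩
        rw [show a * a * e * (a * a)⁻¹ = a * (a * e * a⁻¹) * a⁻¹ by group, h1, h2, h]
    intro u hu hu1 v hv hv1
    obtain ⟨m, hm, hmu⟩ := hto u hu hu1
    obtain ⟨m', hm', hmv⟩ := hto v hv hv1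
    exact ⟨m' * m⁻¹, mul_mem hm' (inv_mem hm), by rw [← hmu, ← hmv]; group⟩
  -- fusion of the elements of order four
  have hfus : ∀ x ∈ T, x ∉ E → ∀ g : G, g * x * g⁻¹ ∈ T →
      ∃ m ∈ Subgroup.normalizer (T : Set G), g * x * g⁻¹ = m * x * m⁻¹ := by
    intro x hx hxE g hgx
    have hu : x * x ∈ E := hS.sq x hx
    have hu1 : x * x ≠ 1 := fun h => hxE (hinv x hx h)
    have hv : g * (x * x) * g⁻¹ ∈ E := by
      have := hS.sq _ hgx
      rwa [show g * x * g⁻¹ * (g * x * g⁻¹) = g * (x * x) * g⁻¹ by group] at this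
    obtain ⟨m, hm, hmv⟩ := hmove _ hu hu1 _ hv (fun h => hu1 (conj_eq_one_iff.1 h))
    have hc : m⁻¹ * g ∈ Subgroup.centralizer ({x * x} : Set G) := by
      refine Subgroup.mem_centralizer_singleton_iff.2 ?_
      calc m⁻¹ * g * (x * x) = m⁻¹ * (g * (x * x) * g⁻¹) * g := by group
        _ = m⁻¹ * (m * (x * x) * m⁻¹) * g := by rw [hmv]
        _ = x * x * (m⁻¹ * g) := by group
    have hmx : m⁻¹ * g * x * (m⁻¹ * g)⁻¹ ∈ T := by
      rw [show m⁻¹ * g * x * (m⁻¹ * g)⁻¹ = m⁻¹ * (g * x * g⁻¹) * m⁻¹⁻¹ by group]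
      exact (Subgroup.mem_normalizer_iff.1 (inv_mem hm) _).1 hgx
    obtain ⟨s, hs, hsx⟩ := hcore hu hu1 hc hx hmx
    refine ⟨m * s, mul_mem hm (Subgroup.le_normalizer hs), ?_⟩
    calc g * x * g⁻¹ = m * (m⁻¹ * g * x * (m⁻¹ * g)⁻¹) * m⁻¹ := by group
      _ = m * (s * x * s⁻¹) * m⁻¹ := by rw [hsx]
      _ = m * s * x * (m * s)⁻¹ := by group
  -- centralisers of elements of order four
  have hlesq : ∀ x : G, Subgroup.centralizer ({x} : Set G) ≤ Subgroup.centralizer ({x * x} : Set G) :=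
    fun x g hg => by
      have h := Subgroup.mem_centralizer_singleton_iff.1 hg
      exact Subgroup.mem_centralizer_singleton_iff.2 (by rw [← mul_assoc, h, mul_assoc, h, mul_assoc])
  have hsylx : ∀ x ∈ T, SylIn 2 (T ⊓ Subgroup.centralizer ({x} : Set G)) (Subgroup.centralizer ({x} : Set G)) := by
    intro x hx
    by_cases hxE : x ∈ E
    · rw [inf_eq_left.2 (le_centralizer_omegaZ hxE)]; exact hsyl hxE
    have hu : x * x ∈ E := hS.sq x hx
    have hu1 : x * x ≠ 1 := fun h => hxE (hinv x hx h)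
    have hu2 := orderOf_involution hu.2.1 hu1
    set C := Subgroup.centralizer ({x} : Set G)
    obtain ⟨R, hR, hTR⟩ := exists_sylIn_ge (S.isPGroup'.to_inf_left (K := C)) (inf_le_right (a := T))
    obtain ⟨c, hc, hcR⟩ := (hsyl hu).conj_le hR.isPGroup (hR.le.trans (hlesq x))
    have hxR : x ∈ R := hTR ⟨hx, Subgroup.mem_centralizer_singleton_iff.2 rfl⟩
    obtain ⟨s, hs, hsx⟩ := hcore hu hu1 hc hx (hcR (conj_mem_cj hxR))
    have hle : cj R (s⁻¹ * c) ≤ T ⊓ C := by
      rintro _ ⟨r, hr, rfl⟩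
      refine ⟨?_, ?_⟩
      · show s⁻¹ * c * r * (s⁻¹ * c)⁻¹ ∈ T
        rw [show s⁻¹ * c * r * (s⁻¹ * c)⁻¹ = s⁻¹ * (c * r * c⁻¹) * s by group]
        exact mul_mem (mul_mem (inv_mem hs) (hcR (conj_mem_cj hr))) hs
      · have := conj_centralizer' (g := s⁻¹ * c) (hR.le hr)
        rwa [show s⁻¹ * c * x * (s⁻¹ * c)⁻¹ = x by
          rw [show s⁻¹ * c * x * (s⁻¹ * c)⁻¹ = s⁻¹ * (c * x * c⁻¹) * s by group, hsx]; group] at this
    have heq : T ⊓ C = R := Subgroup.eq_of_le_of_card_ge hTR ((card_cj R _).symm.le.trans (Subgroup.card_le_of_le hle))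
    rwa [heq]
  refine PiClosed.false_of_env S
    { simple := inferInstance
      facts := hS
      card4 := hcard
      invol := hinv
      model := PiClosed.exists_model_of S hS hinv haN he hf he1 hf1 hef h1 h2 h3 hall hact hfus
      hnpc := fun {x} hx hx1 => ?_
      sylIn := fun {x} hx => hsylx x hx
      card_cent := fun {x} hx hxE => ?_
      no_inverted := fun {x} hx hxE {t} ht hinvt => ?_ }
  · by_cases hxE : x ∈ E
    · exact hI x (orderOf_involution hxE.2.1 hx1)
    · exact hnpc_of_injective (Subgroup.inclusion (hlesq x)) (Subgroup.inclusion_injective _)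
        (hI _ (orderOf_involution (hS.sq x hx).2.1 fun h => hxE (hinv x hx h)))
  · -- the class of `x` in `S` is `x * E`
    obtain ⟨θ, -, hθ⟩ := hS.planes
    have hcls : ∀ i, (∃ c ∈ E, x * c = i) ↔ ∃ h ∈ T, h * x * h⁻¹ = i := by
      intro i
      constructor
      · rintro ⟨c, hc, rfl⟩; exact hS.shift x hx hxE c hc
      · rintro ⟨h, hh, rfl⟩
        refine ⟨x⁻¹ * (h * x * h⁻¹), ?_, by group⟩
        have := (hθ ((⟨x, hx⟩ : ↥T)⁻¹ * (⟨h, hh⟩ * ⟨x, hx⟩ * (⟨h, hh⟩ : ↥T)⁻¹))).1 (by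
          rw [map_mul, map_mul, map_mul, map_inv, map_inv, mul_comm (θ ⟨h, hh⟩), mul_inv_cancel_right, inv_mul_cancel])
        simpa using this
    have h4 := PiClosed.card_class_eq (H := T) (t := x) (P := fun i => ∃ c ∈ E, x * c = i) hcls
    have hE4 : Nat.card {i : G // ∃ c ∈ E, x * c = i} = 4 := by
      rw [← hcard]
      refine (Nat.card_congr (Equiv.ofBijective (fun c : E => (⟨x * c, c, c.2, rfl⟩ : {i : G // ∃ c ∈ E, x * c = i}))
        ⟨fun c d h => Subtype.ext (mul_left_cancel (congrArg Subtype.val h)), fun ⟨i, c, hc, he⟩ =>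
          ⟨⟨c, hc⟩, Subtype.ext he⟩⟩)).symm
    rw [hE4] at h4
    have h1' := Subgroup.relIndex_mul_relIndex (⊥ : Subgroup G) (T ⊓ Subgroup.centralizer ({x} : Set G)) T bot_le
      inf_le_left
    rw [Subgroup.relIndex_bot_left, Subgroup.relIndex_bot_left, hS.card, inf_comm, Subgroup.inf_relIndex_right, ← h4] at h1'
    rw [inf_comm]
    exact Nat.eq_of_mul_eq_mul_right (by norm_num : 0 < 4) (h1'.trans (by norm_num : 64 = 16 * 4))

  · -- no inversion by an involution
    have hu : x * x ∈ E := hS.sq x hx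
    have hu1 : x * x ≠ 1 := fun h => hxE (hinv x hx h)
    have hu2 := orderOf_involution hu.2.1 hu1
    have htC : t ∈ Subgroup.centralizer ({x * x} : Set G) := by
      refine Subgroup.mem_centralizer_singleton_iff.2 ?_
      calc t * (x * x) = (t * x * t⁻¹) * (t * x * t⁻¹) * t := by group
        _ = (x * x)⁻¹ * t := by rw [hinvt, mul_inv_rev]
        _ = x * x * t := by rw [inv_eq_of_mul_eq_one_right hu.2.1]
    obtain ⟨k, hk, s, hs, rfl⟩ := decomp hI hu2 (hsyl hu) htC
    have hss : s * s = 1 := by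
      have hsN := centralizer_le_normalizer_theta (x * x) ((hsyl hu).le hs)
      have hmem : s * s ∈ T ⊓ theta (x * x) := by
        refine ⟨mul_mem hs hs, ?_⟩
        show s * s ∈ theta (x * x)
        rw [show s * s = (s * k * s⁻¹)⁻¹ * (k⁻¹ * (k * s * (k * s))) by group, ht, mul_one]
        exact mul_mem (inv_mem ((Subgroup.mem_normalizer_iff.1 hsN k).1 hk)) (inv_mem hk)
      rwa [inf_theta_eq_bot hI S.isPGroup' hu2, Subgroup.mem_bot] at hmem
    have hsx : s * x * s⁻¹ = x := by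
      rw [← (hinv s hs hss).2.2 x hx, mul_inv_cancel_right]
    have hkx : k * x * k⁻¹ = x⁻¹ := by
      rw [← hinvt, show k * s * x * (k * s)⁻¹ = k * (s * x * s⁻¹) * k⁻¹ by group, hsx]
    have h := eq_of_conj_by_core (inf_theta_eq_bot hI S.isPGroup' hu2) hx hk
      (centralizer_le_normalizer_theta _ ((hsyl hu).le hx)) (hkx ▸ inv_mem hx)
    rw [hkx] at h
    exact hu1 (by nth_rewrite 1 [← h]; exact inv_mul_cancel x)
end Cfsg.Agent.TwoNilpCent
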