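import Cfsg.Agent.Lib.Fusion.TwoNilpCent.Embedded
import Cfsg.Agent.Lib.Fusion.TwoNilpCent.UFour
import Cfsg.Agent.Lib.Solv.CIT.Main
import Cfsg.Agent.Lib.Solv.CIT.EPPOSimple
import Cfsg.Agent.Lib.GW.DepDerivedSL
import Cfsg.Agent.Lib.GW.Final
import Cfsg.Agent.S0483
import Cfsg.Agent.S0516

/-!
# Simple groups in which centralisers of involutions have normal 2-complements
-/

set_option autoImplicit false
set_option linter.style.haveILetI false
set_option linter.unusedSectionVars false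

open Cfsg Cfsg.Agent.Fusion

namespace Cfsg.Agent.TwoNilpCent

universe u

variable {G : Type u} [Group G] [Finite G]

theorem facts_of_unitary (S : Sylow 2 G) {F : Type} [Field F] [Fintype F] [CharP F 2]
    (hF : Fintype.card F = 16) (P : Sylow 2 (Cfsg.PSU 3 F 4))
    (e : (S : Subgroup G) ≃* (P : Subgroup (Cfsg.PSU 3 F 4))) :
    (∀ x ∈ (S : Subgroup G), x * x = 1 → x ∈ PiClosed.omegaZ (S : Subgroup G)) ∧
      PiClosed.Facts (S : Subgroup G) := by
  classical
  obtain ⟨σ, hσ⟩ := Lie.UnitarySylow.sigma_props (F := F) (by norm_num : 1 ≤ 2) (by rw [hF]; norm_num)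
  replace hσ : Cfsg.Agent.Classical.IsUSigma 4 σ := hσ
  obtain ⟨κ⟩ := Lie.UnitarySylow.sylow_PSU hσ (by norm_num : 1 ≤ 2) (by norm_num) P
  letI := Lie.UnitarySylow.uGroup hσ
  set ι := κ.trans e.symm with hι
  have hinv : ∀ x ∈ (S : Subgroup G), x * x = 1 → x ∈ PiClosed.omegaZ (S : Subgroup G) := by
    intro x hx h
    obtain ⟨g, hg⟩ := ι.surjective ⟨x, hx⟩
    have hgg : g * g = 1 := ι.injective (by rw [map_mul, map_one, hg]; exact Subtype.ext h)
    have hgc : g ∈ Subgroup.center (Lie.UnitarySylow.U σ) :=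
      (Lie.UnitarySylow.mem_center_iff hσ _).2 ((Lie.UnitarySylow.sq_eq_one_iff hσ g).1 hgg)
    refine ⟨hx, h, fun s hs => ?_⟩
    obtain ⟨w, hw⟩ := ι.surjective ⟨s, hs⟩
    have := congrArg (fun v => ((ι v : ↥(S : Subgroup G)) : G)) (Subgroup.mem_center_iff.1 hgc w)
    simpa [hg, hw] using this
  exact ⟨hinv, PiClosed.facts_of_iso hinv hF hσ ι⟩

/-- The classification. -/
theorem classify [IsSimpleGroup G] (hna : ¬ IsMulCommutative G) (hI : InvNPC G) :
    (∃ (F : Type) (_ : Field F) (_ : Fintype F), 3 < Fintype.card F ∧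
        Nonempty (G ≃* Matrix.ProjectiveSpecialLinearGroup (Fin 2) F)) ∨
      Cfsg.Lie.IsoSuzuki G ∨ Nonempty (G ≃* ↥(alternatingGroup (Fin 7))) ∨
      (∃ (F : Type) (_ : Field F) (_ : Fintype F), Fintype.card F = 4 ∧
        Nonempty (G ≃* Matrix.ProjectiveSpecialLinearGroup (Fin 3) F)) := by
  classical
  haveI : Fact (Nat.Prime 2) := ⟨Nat.prime_two⟩
  have hna' : ∃ a b : G, a * b ≠ b * a := by
    by_contra h
    push Not at h
    exact hna ⟨⟨h⟩⟩
  have heven : 2 ∣ Nat.card G := by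
    by_contra h
    exact hna ⟨⟨fun a b => IsSimpleGroup.comm_iff_isSolvable.2
      (Lie.CoreFun.solvable_of_odd (Nat.odd_iff.2 (by omega))) a b⟩⟩
  by_cases h2 : Cfsg.PRankLE 2 2 G
  · obtain ⟨S⟩ := (inferInstance : Nonempty (Sylow 2 G))
    let F := GaloisField 2 4
    haveI : Fintype F := Fintype.ofFinite F
    have hF : Fintype.card F = 16 := by
      rw [← Nat.card_eq_fintype_card, GaloisField.card 2 4 (by norm_num)]; norm_num
    obtain ⟨P⟩ := (inferInstance : Nonempty (Sylow 2 (Cfsg.PSU 3 F 4)))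
    have hqd : ¬ (Cfsg.IsQuasiDihedral (S : Subgroup G) ∨ Cfsg.IsWreathed (S : Subgroup G)) := by
      intro hS
      obtain ⟨t, ht⟩ := exists_prime_orderOf_dvd_card' 2 heven
      obtain ⟨K, iK, iKf, ho, ⟨e⟩⟩ := GW.Dep.centralizer_derived_sl GW.perfectClass S hS
        (fun H => Fusion.no_index_two_of_simple hna H) t ht
      set C := Subgroup.centralizer ({t} : Set G)
      have hq : IsPGroup 2 (↥C ⧸ Cfsg.oddCore ↥C) := by
        refine (isPGroup_quotient_pResidual (G := ↥C) (p := 2)).of_surjective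
          (QuotientGroup.map _ _ (MonoidHom.id _) (hnpc_pResidual_le_pPrimeCore (hI t ht))) ?_
        rintro ⟨y⟩
        exact ⟨QuotientGroup.mk y, rfl⟩
      -- a transvection has odd order
      obtain ⟨p, hp⟩ := CharP.exists K
      haveI := hp
      have hpp : p.Prime := CharP.char_is_prime K p
      have hp2 : p ≠ 2 := by
        intro h
        subst h
        obtain ⟨n, -, hn⟩ := FiniteField.card K 2
        rw [hn] at ho
        exact absurd ho (Nat.not_odd_iff_even.2 ((Nat.even_pow' n.ne_zero).2 even_two))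
      let u : Matrix.SpecialLinearGroup (Fin 2) K := ⟨!![1, 1; 0, 1], by simp [Matrix.det_fin_two]⟩
      have hu : ∀ m : ℕ, ((u ^ m : Matrix.SpecialLinearGroup (Fin 2) K) : Matrix (Fin 2) (Fin 2) K) = !![1, (m : K); 0, 1] := by
        intro m
        induction m with
        | zero => ext i j; fin_cases i <;> fin_cases j <;> simp
        | succ m ih =>
          rw [pow_succ, Matrix.SpecialLinearGroup.coe_mul, ih]
          ext i j; fin_cases i <;> fin_cases j <;> simp [u, Matrix.mul_apply, Fin.sum_univ_two, add_comm]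
      obtain ⟨k, hk⟩ := (hq.to_subgroup (commutator (↥C ⧸ Cfsg.oddCore ↥C))).of_equiv e u
      have h1 := congrArg (fun v : Matrix.SpecialLinearGroup (Fin 2) K => (v : Matrix (Fin 2) (Fin 2) K) 0 1) hk
      simp only [hu] at h1
      simp at h1
      have h20 : ((2 : ℕ) : K) = 0 := by exact_mod_cast h1.1
      exact hp2 ((Nat.prime_dvd_prime_iff_eq hpp Nat.prime_two).1 ((CharP.cast_eq_zero_iff K p _).1 h20))
    rcases S0516.result hna h2 S hF P with ⟨n, hn, hD⟩ | h | h | he
    · haveI : Group.IsPerfect G := ⟨(IsSimpleGroup.eq_bot_or_eq_top_of_normal (commutator G) inferInstance).resolve_left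
        fun h => hna ⟨⟨fun a b => commutatorElement_eq_one_iff_mul_comm.1 (Subgroup.mem_bot.1
          (h ▸ commutator_def G ▸ Subgroup.commutator_mem_commutator (Subgroup.mem_top a) (Subgroup.mem_top b)))⟩⟩⟩
      have hO : Cfsg.oddCore G = ⊥ := by
        refine (inferInstance : (Cfsg.oddCore G).Normal).eq_bot_or_eq_top.resolve_right fun htop => hna ?_
        have ho : Odd (Nat.card ↥(Cfsg.oddCore G)) := Char.card_oddCore_odd G
        rw [htop, Subgroup.card_top] at ho
        exact ⟨⟨fun x y => IsSimpleGroup.comm_iff_isSolvable.2 (Lie.CoreFun.solvable_of_odd ho) x y⟩⟩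
      let q : G ≃* G ⧸ Cfsg.oddCore G := (QuotientGroup.quotientBot).symm.trans (QuotientGroup.quotientMulEquivOfEq hO.symm)
      rcases S0483.result S n hn hD with ⟨K, iK, iKf, -, h3, ⟨eK⟩⟩ | hA
      · exact Or.inl ⟨K, iK, iKf, h3, ⟨q.trans eK⟩⟩
      · obtain ⟨eA⟩ := hA
        exact Or.inr (Or.inr (Or.inl ⟨q.trans eA⟩))
    · exact absurd (Or.inl h) hqd
    · exact absurd (Or.inr h) hqd
    · obtain ⟨e⟩ := he
      exact (not_unitary_type hna hI S (facts_of_unitary S hF P e).1 (facts_of_unitary S hF P e).2).elim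
  · -- rank at least three: centralisers of involutions are 2-groups
    simp only [Cfsg.PRankLE, not_forall] at h2
    obtain ⟨E, hEc, hEe, hE⟩ := h2
    have hEl : Cfsg.IsElementaryAbelian 2 E := ⟨hEc, hEe⟩
    obtain ⟨j, hj⟩ := Local.elemAb_card_pow hEl
    have h8 : 8 ≤ Nat.card ↥E := by
      rw [hj] at hE ⊢
      refine (show 8 ≤ 2 ^ 3 by norm_num).trans (Nat.pow_le_pow_right two_pos ?_)
      by_contra h
      exact hE (Nat.pow_le_pow_right two_pos (by omega))
    obtain ⟨S, hES⟩ := (Local.elemAb_isPGroup hEl).exists_le_sylow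
    obtain ⟨U, B⟩ := exists_base hI S ⟨E, hES, hEl, h8⟩
    have hC : ∀ t : G, orderOf t = 2 → IsPGroup 2 ↥(Subgroup.centralizer ({t} : Set G)) := fun t ht =>
      isPGroup_centralizer hI ht (B.theta_eq_bot hna ht)
    rcases Solv.CITGroups.cit_classification_iso hna' hC heven with ⟨K, iK, iKf, -, ⟨e⟩⟩ | h | h
    · exact Or.inl ⟨K, iK, iKf, Solv.CITGroups.four_le_card hna' e, ⟨e⟩⟩
    · exact Or.inr (Or.inr (Or.inr h))
    · exact Or.inr (Or.inl h)

end Cfsg.Agent.TwoNilpCent
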