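import Cfsg.Agent.Lib.Fusion.MaxClassTwo
import Cfsg.Agent.Lib.Local.ElemAb

/-!
# An elementary abelian subgroup of order eight rules out a self-centralising four group
-/

set_option autoImplicit false
set_option linter.style.haveILetI false
set_option linter.unusedSectionVars false

open Cfsg
open scoped commutatorElement

namespace Cfsg.Agent.TwoNilpCent

universe u

theorem card_centralizer_ne_four {X : Type u} [Group X] [Finite X] (hX : IsPGroup 2 X) (E : Subgroup X)
    (hE : Cfsg.IsElementaryAbelian 2 E) (hE8 : 8 ≤ Nat.card E) (a : X)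
    (h4 : Nat.card ↥(Subgroup.centralizer ({a} : Set X)) ≤ 4) : False := by
  classical
  haveI : Fact (Nat.Prime 2) := ⟨Nat.prime_two⟩
  obtain ⟨n, hn⟩ := IsPGroup.iff_card.1 hX
  have hle : 8 ≤ Nat.card X := hE8.trans (Subgroup.card_le_card_group E)
  have hn3 : 3 ≤ n := by
    by_contra h
    have : 2 ^ n ≤ 2 ^ 2 := Nat.pow_le_pow_right two_pos (by omega)
    omega
  obtain ⟨m, rfl⟩ : ∃ m, n = m + 3 := ⟨n - 3, by omega⟩
  -- the commutator subgroup has index four
  have hclass : (Subgroup.centralizer ({a} : Set X)).index ≤ Nat.card ↥(commutator X) := by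
    refine Nat.card_le_card_of_injective
      (fun q : X ⧸ Subgroup.centralizer ({a} : Set X) => (⟨q.out * a * q.out⁻¹ * a⁻¹, ?_⟩ : ↥(commutator X))) ?_
    · rw [show q.out * a * q.out⁻¹ * a⁻¹ = ⁅q.out, a⁆ from rfl, commutator_def]
      exact Subgroup.commutator_mem_commutator (Subgroup.mem_top _) (Subgroup.mem_top _)
    · intro q q' h
      have h' : q.out * a * q.out⁻¹ = q'.out * a * q'.out⁻¹ := mul_right_cancel (congrArg Subtype.val h)
      rw [← q.out_eq', ← q'.out_eq', QuotientGroup.eq, Subgroup.mem_centralizer_singleton_iff]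
      calc q.out⁻¹ * q'.out * a = q.out⁻¹ * (q'.out * a * q'.out⁻¹) * q'.out := by group
        _ = q.out⁻¹ * (q.out * a * q.out⁻¹) * q'.out := by rw [h']
        _ = _ := by group
  have hi4 : (commutator X).index ≤ 4 := by
    have e1 := (Subgroup.centralizer ({a} : Set X)).card_mul_index
    have e2 := (commutator X).card_mul_index
    have : (commutator X).index * Nat.card ↥(commutator X) ≤ 4 * Nat.card ↥(commutator X) := by
      calc (commutator X).index * Nat.card ↥(commutator X) = Nat.card X := by rw [mul_comm, e2]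
        _ = _ := e1.symm
        _ ≤ 4 * Nat.card ↥(commutator X) := Nat.mul_le_mul h4 hclass
    exact Nat.le_of_mul_le_mul_right this Nat.card_pos
  haveI := hX.isNilpotent
  have hcyc : ¬ IsCyclic (Abelianization X) := by
    intro h
    haveI : IsCyclic X := by
      obtain ⟨g, hg⟩ := h.exists_generator
      obtain ⟨x, rfl⟩ := QuotientGroup.mk_surjective g
      refine isCyclic_iff_exists_zpowers_eq_top.2 ⟨x, ?_⟩
      by_contra htop
      obtain ⟨M, hM, hle⟩ := (eq_top_or_exists_le_coatom (Subgroup.zpowers x)).resolve_left htop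
      haveI := Subgroup.NormalizerCondition.normal_of_coatom M Group.normalizerCondition_of_isNilpotent hM
      obtain ⟨y, hy⟩ : ∃ y : X, y ∉ M := by
        by_contra hne
        push Not at hne
        exact hM.1 (eq_top_iff.2 fun y _ => hne y)
      have hG' : commutator X ≤ M := by
        refine Subgroup.Normal.commutator_le_of_self_sup_commutative_eq_top (H := Subgroup.zpowers y) ?_ inferInstance
        refine hM.2 _ (lt_of_le_of_ne le_sup_left fun e => hy ?_)
        rw [e]
        exact Subgroup.mem_sup_right (Subgroup.mem_zpowers y)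
      refine hM.1 (eq_top_iff.2 fun y _ => ?_)
      obtain ⟨i, hi⟩ := Subgroup.mem_zpowers_iff.1 (hg (QuotientGroup.mk y))
      have hi' : (QuotientGroup.mk (x ^ i) : X ⧸ commutator X) = QuotientGroup.mk y := hi
      have := QuotientGroup.eq.1 hi'
      rw [show y = x ^ i * ((x ^ i)⁻¹ * y) by group]
      exact mul_mem (hle (zpow_mem (Subgroup.mem_zpowers x) i)) (hG' this)
    obtain ⟨g, hg⟩ := IsCyclic.exists_generator (α := ↥E)
    have h2 : orderOf g ≤ 2 := Nat.le_of_dvd two_pos (orderOf_dvd_of_pow_eq_one (Subtype.ext (hE.2 g g.2)))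
    have : Nat.card ↥E = orderOf g := (orderOf_eq_card_of_forall_mem_zpowers hg).symm
    omega
  have hidx : (commutator X).index = 4 := by
    obtain ⟨k, hk⟩ := (IsPGroup.iff_card (G := X ⧸ commutator X)).1 (hX.to_quotient _)
    rw [← Subgroup.index_eq_card] at hk
    rcases k with _ | _ | _ | k
    · exfalso
      apply hcyc
      haveI : Subsingleton (Abelianization X) := by
        refine (Nat.card_eq_one_iff_unique.1 ?_).1
        show Nat.card (X ⧸ commutator X) = 1
        rw [← Subgroup.index_eq_card, hk]; rfl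
      infer_instance
    · exfalso
      apply hcyc
      exact isCyclic_of_prime_card (p := 2) (show Nat.card (X ⧸ commutator X) = 2 by
        rw [← Subgroup.index_eq_card, hk]; rfl)
    · rw [hk]; rfl
    · have : 2 ^ 3 ≤ 2 ^ (k + 1 + 1 + 1) := Nat.pow_le_pow_right two_pos (by omega)
      omega
  obtain ⟨x, hx⟩ := Solv.exists_cyclic_index_two m hn (Fusion.lcs_ne_bot_of_commutator_index_four m hn hidx)
  -- a cyclic subgroup of index two meets `E` in a group of order at most two
  have hi2 : (Subgroup.zpowers x).index = 2 := by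
    have h := (Subgroup.zpowers x).card_mul_index
    rw [Nat.card_zpowers, hx, hn, pow_succ 2 (m + 2)] at h
    exact Nat.eq_of_mul_eq_mul_left (pow_pos two_pos _) h
  have h1 : ((Subgroup.zpowers x).subgroupOf E).index ≤ 2 := by
    have : (Subgroup.zpowers x).relIndex E ≤ (Subgroup.zpowers x).index :=
      Nat.le_of_dvd (by rw [hi2]; norm_num)
        (by haveI : (Subgroup.zpowers x).Normal := Subgroup.normal_of_index_eq_two hi2
            exact Subgroup.relIndex_dvd_index_of_normal _ _)
    rw [hi2] at this
    exact this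
  have h2 : Nat.card ↥((Subgroup.zpowers x).subgroupOf E) ≤ 2 := by
    let f : ↥((Subgroup.zpowers x).subgroupOf E) →* ↥(Subgroup.zpowers x) :=
      { toFun := fun y => ⟨((y : ↥E) : X), y.2⟩
        map_one' := rfl
        map_mul' := fun _ _ => rfl }
    haveI := isCyclic_of_injective f fun y z h =>
      Subtype.ext (Subtype.ext (congrArg (fun w : ↥(Subgroup.zpowers x) => (w : X)) h))
    obtain ⟨g, hg⟩ := IsCyclic.exists_generator (α := ↥((Subgroup.zpowers x).subgroupOf E))
    rw [← orderOf_eq_card_of_forall_mem_zpowers hg]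
    refine Nat.le_of_dvd two_pos (orderOf_dvd_of_pow_eq_one ?_)
    exact Subtype.ext (Subtype.ext (hE.2 _ (g : ↥E).2))
  have h3 := ((Subgroup.zpowers x).subgroupOf E).card_mul_index
  have := Nat.mul_le_mul h2 h1
  omega

end Cfsg.Agent.TwoNilpCent
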