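import Cfsg.Agent.Lib.Fusion.TwoNilpCent.Basic
import Cfsg.Agent.Lib.Fusion.TwoNilpCent.Tools
import Cfsg.Agent.Lib.Fusion.NormalFour
import Cfsg.Agent.Lib.Fusion.L2Cent.Count
import Cfsg.Agent.S0058
import Cfsg.Agent.S0217

/-!
# Rank at least three: the signalizer functor

All elementary abelian subgroups of order eight of a Sylow 2-subgroup give the same odd subgroup.
-/

set_option autoImplicit false
set_option linter.style.haveILetI false
set_option linter.unusedSectionVars false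

open Cfsg Cfsg.Agent.Fusion Cfsg.Agent.Local

namespace Cfsg.Agent.TwoNilpCent

universe u

variable {G : Type u} [Group G]

/-- The subgroup generated by the signalizers of the nontrivial elements of `V`. -/
def wset (V : Subgroup G) : Subgroup G := ⨆ a : {a : G // a ∈ V ∧ a ≠ 1}, theta (a : G)

/-- An elementary abelian subgroup of order at least eight. -/
def El8 (F : Subgroup G) : Prop := Cfsg.IsElementaryAbelian 2 F ∧ 8 ≤ Nat.card ↥F

theorem theta_le_wset {V : Subgroup G} {a : G} (ha : a ∈ V) (ha1 : a ≠ 1) : theta a ≤ wset V :=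
  le_iSup (fun a : {a : G // a ∈ V ∧ a ≠ 1} => theta (a : G)) ⟨a, ha, ha1⟩

theorem wset_mono {V W : Subgroup G} (h : V ≤ W) : wset V ≤ wset W :=
  iSup_le fun a => theta_le_wset (h a.2.1) a.2.2

theorem wset_cj (V : Subgroup G) (g : G) : cj (wset V) g = wset (cj V g) := by
  rw [wset, cj, Subgroup.map_iSup]
  refine le_antisymm (iSup_le fun a => ?_) (iSup_le fun b => ?_)
  · refine (le_of_eq (theta_cj _ g)).trans (theta_le_wset (conj_mem_cj a.2.1) fun h => a.2.2 (conj_eq_one_iff.1 h))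
  · obtain ⟨a, ha, hab⟩ := b.2.1
    refine le_trans ?_ (le_iSup _ ⟨a, ha, fun h => b.2.2 (by rw [← hab, h]; simp)⟩)
    exact le_of_eq ((congrArg theta hab.symm).trans (theta_cj a g).symm)

theorem elemAb_cj {F : Subgroup G} (hF : Cfsg.IsElementaryAbelian 2 F) (g : G) :
    Cfsg.IsElementaryAbelian 2 (cj F g) := by
  refine ⟨⟨⟨?_⟩⟩, ?_⟩
  · rintro ⟨_, a, ha, rfl⟩ ⟨_, b, hb, rfl⟩
    exact Subtype.ext (show MulAut.conj g a * MulAut.conj g b = MulAut.conj g b * MulAut.conj g a by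
      rw [← map_mul, ← map_mul, elemAb_commute hF ha hb])
  · rintro _ ⟨a, ha, rfl⟩
    show MulAut.conj g a ^ 2 = 1
    rw [← map_pow, hF.2 a ha, map_one]

theorem orderOf_of_mem {F : Subgroup G} (hF : Cfsg.IsElementaryAbelian 2 F) {a : G} (ha : a ∈ F) (ha1 : a ≠ 1) :
    orderOf a = 2 :=
  orderOf_eq_prime (hF.2 a ha) ha1

variable [Finite G]

theorem not_isCyclic_of_four {V : Subgroup G} (hV : Cfsg.IsElementaryAbelian 2 V) (h4 : 4 ≤ Nat.card ↥V) :
    ¬ IsCyclic ↥V := fun h => by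
  obtain ⟨g, hg⟩ := h.exists_generator
  have h2 : orderOf g ≤ 2 := Nat.le_of_dvd two_pos (orderOf_dvd_of_pow_eq_one (Subtype.ext (hV.2 g g.2)))
  have := orderOf_eq_card_of_forall_mem_zpowers hg
  omega

theorem wset_eq (hI : InvNPC G) {F V : Subgroup G} (hF : Cfsg.IsElementaryAbelian 2 F) (hVF : V ≤ F)
    (h4 : 4 ≤ Nat.card ↥V) : wset F = wset V := by
  refine le_antisymm (iSup_le fun f => ?_) (wset_mono hVF)
  have hf2 := orderOf_of_mem hF f.2.1 f.2.2
  have hVn : V ≤ Subgroup.normalizer (theta (f : G) : Set G) := fun v hv =>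
    centralizer_le_normalizer_theta _ (Subgroup.mem_centralizer_singleton_iff.2 (elemAb_commute hF (hVF hv) f.2.1))
  haveI : Fact (Nat.Prime 2) := ⟨Nat.prime_two⟩
  have hVe := elemAb_mono hF hVF
  haveI := hVe.1
  have hgen := S0058.result V (theta (f : G)) (not_isCyclic_of_four hVe h4) hVn (by
    obtain ⟨k, hk⟩ := elemAb_card_pow hVe
    rw [hk]
    exact (Nat.coprime_two_left.2 (theta_odd hI hf2)).pow_left k)
  rw [← hgen]
  exact iSup₂_le fun v hv =>
    (theta_balance hI hf2 (orderOf_of_mem hVe hv.1 hv.2)).trans (theta_le_wset hv.1 hv.2)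

/-- The setting: a normal four subgroup `U` of a Sylow subgroup of rank at least three. -/
structure Base (S : Sylow 2 G) (U : Subgroup G) : Prop where
  hI : InvNPC G
  le : U ≤ (S : Subgroup G)
  norm : (S : Subgroup G) ≤ Subgroup.normalizer (U : Set G)
  elem : Cfsg.IsElementaryAbelian 2 U
  card : Nat.card ↥U = 4
  rank : ∃ E : Subgroup G, E ≤ (S : Subgroup G) ∧ El8 E

theorem exists_base (hI : InvNPC G) (S : Sylow 2 G) (hrank : ∃ E : Subgroup G, E ≤ (S : Subgroup G) ∧ El8 E) :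
    ∃ U : Subgroup G, Base S U := by
  obtain ⟨E, hES, hE, hE8⟩ := hrank
  obtain ⟨V, hVn, hV, hV4⟩ := exists_normal_four S.isPGroup' (E.subgroupOf (S : Subgroup G))
    ⟨⟨⟨fun a b => Subtype.ext (Subtype.ext (elemAb_commute hE a.2 b.2))⟩⟩, fun a ha => Subtype.ext (hE.2 _ ha)⟩
    (by rw [Nat.card_congr (Subgroup.subgroupOfEquivOfLe hES).toEquiv]; exact hE8)
  refine ⟨V.map (S : Subgroup G).subtype, hI, Subgroup.map_subtype_le _, ?_, ?_, ?_, E, hES, hE, hE8⟩
  · have h := Subgroup.le_normalizer_map (H := V) (S : Subgroup G).subtype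
    rwa [@Subgroup.normalizer_eq_top _ _ _ hVn, ← MonoidHom.range_eq_map, Subgroup.range_subtype] at h
  · refine ⟨⟨⟨?_⟩⟩, ?_⟩
    · rintro ⟨_, a, ha, rfl⟩ ⟨_, b, hb, rfl⟩
      exact Subtype.ext (congrArg (fun w : ↥(S : Subgroup G) => (w : G)) (elemAb_commute hV ha hb))
    · rintro _ ⟨a, ha, rfl⟩
      exact congrArg (fun w : ↥(S : Subgroup G) => (w : G)) (hV.2 a ha)
  · rw [Subgroup.card_map_of_injective (S : Subgroup G).subtype_injective, hV4]

namespace Base

variable {S : Sylow 2 G} {U : Subgroup G} (B : Base S U)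
include B

theorem relIndex_centralizer_le {F : Subgroup G} (hFS : F ≤ (S : Subgroup G)) :
    (Subgroup.centralizer (U : Set G)).relIndex F ≤ 2 := by
  classical
  haveI : Fact (Nat.Prime 2) := ⟨Nat.prime_two⟩
  by_contra hlt
  push Not at hlt
  set H := (Subgroup.centralizer (U : Set G)).subgroupOf F with hH
  have h3 : 3 ≤ Nat.card (↥F ⧸ H) := hlt
  obtain ⟨z, hzU, hzc, hz1⟩ : ∃ z ∈ U, (∀ s ∈ (S : Subgroup G), s * z = z * s) ∧ z ≠ 1 := by
    haveI : (U.subgroupOf (S : Subgroup G)).Normal :=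
      ⟨fun v hv g => (Subgroup.mem_normalizer_iff.1 (B.norm g.2) _).1 hv⟩
    haveI : Nontrivial ↥(U.subgroupOf (S : Subgroup G)) := Finite.one_lt_card_iff_nontrivial.1 (by
      rw [Nat.card_congr (Subgroup.subgroupOfEquivOfLe B.le).toEquiv, B.card]; norm_num)
    obtain ⟨z, hz, hzc, hz1⟩ := Perm.exists_ne_one_center S.isPGroup' (U.subgroupOf (S : Subgroup G))
    exact ⟨z, hz, fun s hs => congrArg Subtype.val (Subgroup.mem_center_iff.1 hzc ⟨s, hs⟩),
      fun h => hz1 (Subtype.ext h)⟩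
  obtain ⟨u, huU, huz⟩ : ∃ u ∈ U, u ∉ Subgroup.zpowers z := by
    by_contra h
    push Not at h
    have := Subgroup.card_le_of_le (show U ≤ Subgroup.zpowers z from h)
    rw [B.card, Nat.card_zpowers, orderOf_of_mem B.elem hzU hz1] at this
    omega
  have hu1 : u ≠ 1 := fun h => huz (h ▸ one_mem _)
  -- `U` consists of `1`, `z`, `u` and `u * z`
  have hall : ∀ w ∈ U, w = 1 ∨ w = z ∨ w = u ∨ w = u * z := by
    intro w hw
    by_contra hcon
    push Not at hcon
    have hzz : z * z = 1 := by rw [← sq]; exact B.elem.2 z hzU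
    have huu : u * u = 1 := by rw [← sq]; exact B.elem.2 u huU
    have hn1 : u * z ≠ 1 := fun h => huz (by
      rw [eq_inv_of_mul_eq_one_left h]; exact inv_mem (Subgroup.mem_zpowers z))
    have hnu : u * z ≠ u := fun h => hz1 (mul_eq_left.1 h)
    have hnz : u * z ≠ z := fun h => hu1 (mul_eq_right.1 h)
    have hzu : z ≠ u := fun h => huz (h ▸ Subgroup.mem_zpowers z)
    let v : Fin 5 → U := ![1, ⟨z, hzU⟩, ⟨u, huU⟩, ⟨u * z, mul_mem huU hzU⟩, ⟨w, hw⟩]
    have hv : Function.Injective v := by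
      intro i j h
      fin_cases i <;> fin_cases j <;>
        first
          | rfl
          | (exfalso; simp [v, Subtype.ext_iff, hz1, hu1, hn1, hnu, hnz, hzu, hcon.1, hcon.2.1, hcon.2.2.1,
              hcon.2.2.2, Ne.symm hz1, Ne.symm hu1, Ne.symm hn1, Ne.symm hnu, Ne.symm hnz, Ne.symm hzu,
              Ne.symm hcon.1, Ne.symm hcon.2.1, Ne.symm hcon.2.2.1, Ne.symm hcon.2.2.2] at h)
    have := Nat.card_le_card_of_injective v hv
    rw [Nat.card_fin, B.card] at this
    omega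
  have hcent : ∀ f : ↥F, (f : G) * u * (f : G)⁻¹ = u → f ∈ H := by
    intro f hf
    rw [hH, Subgroup.mem_subgroupOf]
    refine Subgroup.mem_centralizer_iff.2 fun w hw => ?_
    have h1 : (f : G) * z = z * f := hzc _ (hFS f.2)
    have h2 : (f : G) * u = u * f := mul_inv_eq_iff_eq_mul.1 hf
    rcases hall w hw with rfl | rfl | rfl | rfl
    · simp
    · exact h1.symm
    · exact h2.symm
    · exact ((show Commute (f : G) u from h2).mul_right h1).eq.symm
  have himg : ∀ f : ↥F, f ∉ H → (f : G) * u * (f : G)⁻¹ = u * z := by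
    intro f hf
    have hne : (f : G) * u * (f : G)⁻¹ ≠ u := fun h => hf (hcent f h)
    have hmem : (f : G) * u * (f : G)⁻¹ ∈ U := (Subgroup.mem_normalizer_iff.1 (B.norm (hFS f.2)) u).1 huU
    rcases hall _ hmem with h | h | h | h
    · exact absurd (conj_eq_one_iff.1 h) hu1
    · exfalso
      refine huz ?_
      have : u = z := by
        calc u = (f : G)⁻¹ * ((f : G) * u * (f : G)⁻¹) * f := by group
          _ = (f : G)⁻¹ * (z * f) := by rw [h]; group
          _ = z := by rw [← hzc _ (hFS f.2)]; group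
      rw [this]; exact Subgroup.mem_zpowers z
    · exact absurd h hne
    · exact h
  have hsub : ∀ q q' : ↥F ⧸ H, q ≠ QuotientGroup.mk 1 → q' ≠ QuotientGroup.mk 1 → q = q' := by
    intro q q'
    refine QuotientGroup.induction_on q fun a => QuotientGroup.induction_on q' fun b ha hb => ?_
    have hnot : ∀ c : ↥F, (QuotientGroup.mk c : ↥F ⧸ H) ≠ QuotientGroup.mk 1 → c ∉ H := fun c hc h =>
      hc (QuotientGroup.eq.2 (by simpa using inv_mem h))
    have e1 := himg a (hnot a ha)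
    have e2 := himg b (hnot b hb)
    refine QuotientGroup.eq.2 (hcent _ ?_)
    rw [Subgroup.coe_mul, Subgroup.coe_inv]
    calc (a : G)⁻¹ * b * u * ((a : G)⁻¹ * b)⁻¹ = (a : G)⁻¹ * ((b : G) * u * (b : G)⁻¹) * a := by group
      _ = (a : G)⁻¹ * ((a : G) * u * (a : G)⁻¹) * a := by rw [e1, e2]
      _ = u := by group
  letI : Fintype (↥F ⧸ H) := Fintype.ofFinite _
  rw [Nat.card_eq_fintype_card] at h3
  obtain ⟨x, y, w, hxy, hxw, hyw⟩ := Fintype.two_lt_card_iff.1 (by omega : 2 < Fintype.card (↥F ⧸ H))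
  by_cases hx : x = QuotientGroup.mk 1
  · exact hyw (hsub y w (fun h => hxy (hx.trans h.symm)) fun h => hxw (hx.trans h.symm))
  · by_cases hy : y = QuotientGroup.mk 1
    · exact hxw (hsub x w hx fun h => hyw (hy.trans h.symm))
    · exact hxy (hsub x y hx hy)

theorem relIndex_centralizer : (Subgroup.centralizer (U : Set G)).relIndex (S : Subgroup G) ≤ 2 :=
  B.relIndex_centralizer_le le_rfl

theorem centralizer_fixed_four {F : Subgroup G} (hFS : F ≤ (S : Subgroup G)) (hF : El8 F) :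
    4 ≤ Nat.card ↥(F ⊓ Subgroup.centralizer (U : Set G)) := by
  have hidx := B.relIndex_centralizer_le hFS
  have h := ((Subgroup.centralizer (U : Set G)).subgroupOf F).card_mul_index
  have hc : Nat.card ↥((Subgroup.centralizer (U : Set G)).subgroupOf F) = Nat.card ↥(F ⊓ Subgroup.centralizer (U : Set G)) := by
    rw [← Subgroup.card_map_of_injective F.subtype_injective, Subgroup.subgroupOf_map_subtype, inf_comm]
  rw [hc] at h
  have h8 := hF.2
  have := Nat.mul_le_mul_left (Nat.card ↥(F ⊓ Subgroup.centralizer (U : Set G))) hidx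
  rw [Subgroup.relIndex] at this
  omega

theorem wset_of_el8 {F : Subgroup G} (hFS : F ≤ (S : Subgroup G)) (hF : El8 F) : wset F = wset U := by
  have h4 := B.centralizer_fixed_four hFS hF
  set F0 := F ⊓ Subgroup.centralizer (U : Set G)
  have hA : Cfsg.IsElementaryAbelian 2 (U ⊔ F0) :=
    elemAb_sup B.elem (elemAb_mono hF.1 inf_le_left) fun u hu f hf => Subgroup.mem_centralizer_iff.1 hf.2 u hu
  rw [wset_eq B.hI hF.1 (inf_le_left : F0 ≤ F) h4, ← wset_eq B.hI hA le_sup_right h4,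
    ← wset_eq B.hI hA le_sup_left B.card.ge]

theorem exists_el8_four : ∃ F : Subgroup G, F ≤ (S : Subgroup G) ∧ El8 F ∧ U ≤ F := by
  obtain ⟨E, hES, hE⟩ := B.rank
  have h4 := B.centralizer_fixed_four hES hE
  set F0 := E ⊓ Subgroup.centralizer (U : Set G)
  have hA : Cfsg.IsElementaryAbelian 2 (U ⊔ F0) :=
    elemAb_sup B.elem (elemAb_mono hE.1 inf_le_left) fun u hu f hf => Subgroup.mem_centralizer_iff.1 hf.2 u hu
  by_cases h8 : 8 ≤ Nat.card ↥(U ⊔ F0 : Subgroup G)
  · exact ⟨U ⊔ F0, sup_le B.le (inf_le_left.trans hES), ⟨hA, h8⟩, le_sup_left⟩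
  · haveI : Fact (Nat.Prime 2) := ⟨Nat.prime_two⟩
    obtain ⟨k, hk⟩ := elemAb_card_pow hA
    have hk2 : k ≤ 2 := by
      by_contra hlt
      exact h8 (hk ▸ Nat.pow_le_pow_right two_pos (by omega : 3 ≤ k))
    have hle : Nat.card ↥(U ⊔ F0 : Subgroup G) ≤ 4 := hk ▸ Nat.pow_le_pow_right two_pos hk2
    have e1 : U = U ⊔ F0 := Subgroup.eq_of_le_of_card_ge le_sup_left (by rw [B.card]; exact hle)
    have e2 : F0 = U ⊔ F0 := Subgroup.eq_of_le_of_card_ge le_sup_right (hle.trans h4)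
    exact ⟨E, hES, hE, (e1.trans e2.symm).le.trans inf_le_left⟩

theorem odd_wset : Odd (Nat.card ↥(wset U)) := by
  haveI : Fact (Nat.Prime 2) := ⟨Nat.prime_two⟩
  obtain ⟨F, hFS, hF, -⟩ := B.exists_el8_four
  rw [← B.wset_of_el8 hFS hF]
  have h2 : ∀ a ∈ F, a ≠ 1 → orderOf a = 2 := fun a ha ha1 => orderOf_of_mem hF.1 ha ha1
  obtain ⟨h, -⟩ := S0217.result (p := 2) F (fun a ha b hb => elemAb_commute hF.1 ha hb) hF.1.2
    (by norm_num; exact hF.2) theta
    (fun a _ _ => theta_le a)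
    (fun a ha ha1 hd => Nat.not_even_iff_odd.2 (theta_odd B.hI (h2 a ha ha1)) (even_iff_two_dvd.2 hd))
    (fun a ha _ b hb x hx => (Subgroup.mem_normalizer_iff.1
      (centralizer_le_normalizer_theta a (Subgroup.mem_centralizer_singleton_iff.2 (elemAb_commute hF.1 hb ha))) x).1 hx)
    (fun a ha ha1 => theta_solvable B.hI (h2 a ha ha1))
    (fun a ha ha1 b hb hb1 => theta_balance B.hI (h2 a ha ha1) (h2 b hb hb1))
  exact Nat.not_even_iff_odd.1 fun he => h (even_iff_two_dvd.1 he)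

theorem normalizer_le {Q F : Subgroup G} (hQS : Q ≤ (S : Subgroup G)) (hFQ : F ≤ Q) (hF : El8 F) :
    Subgroup.normalizer (Q : Set G) ≤ Subgroup.normalizer (wset U : Set G) := by
  intro g hg
  refine mem_normalizer_iff_cj.2 ?_
  conv_lhs => rw [← B.wset_of_el8 (hFQ.trans hQS) hF]
  rw [wset_cj]
  refine B.wset_of_el8 ((cj_mono hFQ g).trans ((cj_eq_self hg).le.trans hQS)) ⟨elemAb_cj hF.1 g, ?_⟩
  rw [card_cj]; exact hF.2

theorem normalizer_sylow_le :
    Subgroup.normalizer ((S : Subgroup G) : Set G) ≤ Subgroup.normalizer (wset U : Set G) := by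
  obtain ⟨E, hES, hE⟩ := B.rank
  exact B.normalizer_le le_rfl hES hE

/-- An involution of `S` centralising `U` lies in an elementary abelian subgroup of order eight. -/
theorem big_of_commute {b : G} (hb : b ∈ (S : Subgroup G)) (hb2 : orderOf b = 2)
    (hbU : b ∈ Subgroup.centralizer (U : Set G)) : ∃ F : Subgroup G, F ≤ (S : Subgroup G) ∧ El8 F ∧ b ∈ F := by
  haveI : Fact (Nat.Prime 2) := ⟨Nat.prime_two⟩
  by_cases h : b ∈ U
  · obtain ⟨F, hFS, hF, hUF⟩ := B.exists_el8_four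
    exact ⟨F, hFS, hF, hUF h⟩
  · have hb' : b ^ 2 = 1 := by rw [← hb2, pow_orderOf_eq_one]
    have hA : Cfsg.IsElementaryAbelian 2 (U ⊔ Subgroup.zpowers b) :=
      elemAb_sup B.elem (elemAb_zpowers hb') fun u hu x hx => by
        obtain ⟨i, rfl⟩ := Subgroup.mem_zpowers_iff.1 hx
        exact ((show Commute u b from Subgroup.mem_centralizer_iff.1 hbU u hu).zpow_right i).eq
    refine ⟨_, sup_le B.le (Subgroup.zpowers_le.2 hb), ⟨hA, ?_⟩, Subgroup.mem_sup_right (Subgroup.mem_zpowers b)⟩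
    obtain ⟨k, hk⟩ := elemAb_card_pow hA
    have hlt : 2 ^ 2 < Nat.card ↥(U ⊔ Subgroup.zpowers b : Subgroup G) := by
      rw [show (2 : ℕ) ^ 2 = Nat.card ↥U by rw [B.card]; norm_num]
      refine lt_of_le_of_ne (Subgroup.card_le_of_le le_sup_left) fun e => h ?_
      rw [Subgroup.eq_of_le_of_card_ge le_sup_left e.ge]
      exact Subgroup.mem_sup_right (Subgroup.mem_zpowers b)
    rw [hk] at hlt ⊢
    exact Nat.pow_le_pow_right two_pos (Nat.succ_le_of_lt ((Nat.pow_lt_pow_iff_right one_lt_two).1 hlt))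

/-- Every involution is conjugate to one centralising `U`. -/
theorem exists_conj_commute [IsSimpleGroup G] (hna : ¬ IsMulCommutative G) {a : G} (ha : orderOf a = 2) :
    ∃ b ∈ (S : Subgroup G), b ∈ Subgroup.centralizer (U : Set G) ∧ IsConj a b := by
  classical
  haveI : Fact (Nat.Prime 2) := ⟨Nat.prime_two⟩
  obtain ⟨g, -, hg⟩ := (sylIn_top S).conj_le
    (IsPGroup.of_card (n := 1) (by rw [Nat.card_zpowers, ha, pow_one]) : IsPGroup 2 ↥(Subgroup.zpowers a)) le_top
  have hxS : g * a * g⁻¹ ∈ (S : Subgroup G) := hg (conj_mem_cj (Subgroup.mem_zpowers a))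
  have hx2 : orderOf (g * a * g⁻¹) = 2 := by
    rw [show g * a * g⁻¹ = MulAut.conj g a from rfl, MulEquiv.orderOf_eq, ha]
  have hax : IsConj a (g * a * g⁻¹) := isConj_iff.2 ⟨g, rfl⟩
  set T := (S : Subgroup G) ⊓ Subgroup.centralizer (U : Set G) with hT
  by_cases hxT : g * a * g⁻¹ ∈ T
  · exact ⟨_, hxT.1, hxT.2, hax⟩
  have hrel : T.relIndex (S : Subgroup G) = 2 := by
    obtain ⟨j, hj⟩ := (IsPGroup.iff_card (p := 2)).1 S.isPGroup'
    have hdvd : T.relIndex (S : Subgroup G) ∣ 2 ^ j := hj ▸ Subgroup.index_dvd_card _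
    obtain ⟨i, -, hi⟩ := (Nat.dvd_prime_pow Nat.prime_two).1 hdvd
    rcases i with _ | _ | i
    · exfalso
      refine hxT ((Subgroup.relIndex_eq_one.1 (by rw [hi]; rfl)) hxS)
    · rw [hi]; rfl
    · exfalso
      -- two elements of `S` in different nontrivial cosets would move `U` in two ways
      obtain ⟨E, hES, hE⟩ := B.rank
      have h2 : (Subgroup.centralizer (U : Set G)).relIndex (S : Subgroup G) ≤ 2 := B.relIndex_centralizer
      rw [hT, Subgroup.inf_relIndex_left] at hi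
      have : 2 ^ 2 ≤ 2 ^ (i + 1 + 1) := Nat.pow_le_pow_right two_pos (by omega)
      omega
  obtain ⟨y, hy, hxy⟩ := L2Cent.exists_conj_mem hna S inf_le_left hrel hx2 hxS hxT
  exact ⟨y, hy.1, hy.2, hax.trans hxy⟩

end Base

end Cfsg.Agent.TwoNilpCent
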